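import Cfsg.Agent.Lib.Block.KGVReal.Heis
import Cfsg.Agent.Lib.Char.InvariantCover
import Cfsg.Agent.Lib.Char.ExtendMain
import Cfsg.Agent.Lib.Char.CoprimeDegree
import Cfsg.Agent.Lib.Char.Det

/-!
A non-degenerate invariant alternating form: the quotient of the degree by the value of the
character of the semidirect product extending the character of the two-step nilpotent group.
-/

namespace Cfsg.Agent.Block.KGVReal

open scoped ComplexConjugate
open Cfsg Cfsg.Agent.Char Cfsg.Agent.Block.KGV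
open Cfsg.Agent.Char.Brauer (AlgComb)

universe u v

variable {H : Type u} [Group H] [Fintype H] {A : Type v} [AddCommGroup A] [DistribMulAction H A]
  [Finite A] {p : ℕ} [hp : Fact p.Prime] {b : A →+ A →+ ZMod p}

/-- The semidirect product. -/
abbrev Semi (hb : ∀ (y : H) u w, b (y • u) (y • w) = b u w) :=
  Heis b ⋊[Heis.act hb] H

instance (hb : ∀ (y : H) u w, b (y • u) (y • w) = b u w) : Finite (Semi hb) :=
  Finite.of_equiv _ (SemidirectProduct.equivProd (φ := Heis.act hb)).symm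

/-- The map `a ↦ a - y • a`. -/
def moveHom (y : H) : A →+ A where
  toFun a := a - y • a
  map_zero' := by simp
  map_add' a a' := by rw [smul_add]; abel

omit [Fintype H] [Finite A] in
theorem sub_pow_smul_mem (y : H) (a : A) (i : ℕ) : a - y ^ i • a ∈ (moveHom y : A →+ A).range := by
  induction i with
  | zero => simp
  | succ i ih =>
    have h1 : y ^ i • a - y • (y ^ i • a) ∈ (moveHom y : A →+ A).range := ⟨y ^ i • a, rfl⟩
    have := add_mem ih h1
    rwa [smul_smul, ← pow_succ', sub_add_sub_cancel] at this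

omit [Finite A] in
theorem move_decomp (hA : ∀ a : A, p • a = 0) (y : H) (hy : ¬ p ∣ orderOf y) (a : A) :
    ∃ c ∈ fixSub A y, a - c ∈ (moveHom y : A →+ A).range := by
  obtain ⟨m, hm⟩ := nsmul_inj hA hy
  refine ⟨m • orbSum y a, nsmul_mem (orbSum_fixed y a) m, ?_⟩
  have h1 : ∑ i ∈ Finset.range (orderOf y), (a - y ^ i • a) = orderOf y • a - orbSum y a := by
    rw [Finset.sum_sub_distrib, Finset.sum_const, Finset.card_range, orbSum_apply]
  have h2 : orderOf y • a - orbSum y a ∈ (moveHom y : A →+ A).range :=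
    h1 ▸ sum_mem fun i _ => sub_pow_smul_mem y a i
  have := nsmul_mem h2 m
  rwa [nsmul_sub, hm] at this

omit [Fintype H] in
theorem moveHom_ker (y : H) : (moveHom y : A →+ A).ker = fixSub A y := by
  ext a
  show a - y • a = 0 ↔ y • a = a
  rw [sub_eq_zero]
  exact eq_comm

theorem conj_inl {hb : ∀ (y : H) u w, b (y • u) (y • w) = b u w} (x e : Heis b) (y : H) :
    (SemidirectProduct.inl x : Semi hb) * (SemidirectProduct.inl e * SemidirectProduct.inr y) *
      (SemidirectProduct.inl x)⁻¹ =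
    SemidirectProduct.inl (x * e * Heis.act hb y x⁻¹) * SemidirectProduct.inr y := by
  apply SemidirectProduct.ext <;> simp [mul_assoc]

theorem zel_central (hb : ∀ (y : H) u w, b (y • u) (y • w) = b u w) :
    (SemidirectProduct.inl (Heis.zel b) : Semi hb) ∈ Subgroup.center (Semi hb) := by
  refine Subgroup.mem_center_iff.mpr fun g => ?_
  have hz : Heis.act hb g.right (Heis.zel b) = Heis.zel b := by
    ext <;> simp [Heis.zel]
  apply SemidirectProduct.ext
  · simp only [SemidirectProduct.mul_left, SemidirectProduct.left_inl, SemidirectProduct.right_inl,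
      map_one, MulAut.one_apply, hz]
    exact Subgroup.mem_center_iff.mp Heis.zel_mem_center _
  · simp

variable {hb : ∀ (y : H) u w, b (y • u) (y • w) = b u w}

theorem semi_val {χ : Semi hb → ℂ} {c : ℂ}
    (hz : ∀ g, χ (SemidirectProduct.inl (Heis.zel b) * g) = c * χ g) (a : A) (s : ZMod p) (y : H) :
    χ (SemidirectProduct.inl ⟨a, s⟩ * SemidirectProduct.inr y) =
      c ^ s.val * χ (SemidirectProduct.inl ⟨a, 0⟩ * SemidirectProduct.inr y) := by
  rw [Heis.mk_eq a s, map_mul, map_pow, mul_assoc, scalar_pow hz]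

theorem semi_vanish (hA : ∀ a : A, p • a = 0) (hnd : ∀ a, (∀ w, b w a - b a w = 0) → a = 0)
    (y : H) (hy : ¬ p ∣ orderOf y) {χ : Semi hb → ℂ} (hχ : IsClassFunction (Semi hb) χ) {c : ℂ}
    (hcp : c ^ p = 1) (hc1 : c ≠ 1)
    (hz : ∀ g, χ (SemidirectProduct.inl (Heis.zel b) * g) = c * χ g) {a : A}
    (ha : a ∈ fixSub A y) (ha0 : a ≠ 0) (s : ZMod p) :
    χ (SemidirectProduct.inl ⟨a, s⟩ * SemidirectProduct.inr y) = 0 := by
  obtain ⟨w, hw, hwa⟩ : ∃ w ∈ fixSub A y, b w a - b a w ≠ 0 := by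
    by_contra hno
    push Not at hno
    refine ha0 (hnd a fun w => ?_)
    obtain ⟨c, hc, u, hu⟩ := move_decomp hA y hy w
    have hwcu : w = c + (u - y • u) := by
      rw [show u - y • u = moveHom y u from rfl, hu, add_sub_cancel]
    have e1 : b (u - y • u) a = 0 := by
      rw [map_sub, AddMonoidHom.sub_apply]
      conv_lhs => arg 2; rw [← mem_fixSub.mp ha]
      rw [hb, sub_self]
    have e2 : b a (u - y • u) = 0 := by
      rw [map_sub]
      conv_lhs => arg 2; rw [← mem_fixSub.mp ha]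
      rw [hb, sub_self]
    rw [hwcu, map_add, map_add, AddMonoidHom.add_apply, e1, e2, add_zero, add_zero, hno c hc]
  set t := b w a - b a w
  refine vanish_of_conj hχ (x := SemidirectProduct.inl ⟨w, 0⟩)
    (z := SemidirectProduct.inl (Heis.zel b) ^ t.val) (c := c ^ t.val)
    (pow_eq_one_of_lt hcp hc1 (by rw [ZMod.natCast_zmod_val]; exact hwa)) (scalar_pow hz _ _) ?_
  rw [conj_inl, ← map_pow, ← mul_assoc, ← map_mul, Heis.zel_pow_val]
  have hx : Heis.act hb y (⟨w, 0⟩ : Heis b)⁻¹ = (⟨w, 0⟩ : Heis b)⁻¹ := by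
    rw [map_inv]
    congr 1
    ext <;> simp [mem_fixSub.mp hw]
  rw [hx, Heis.conj_eq]
  congr 2
  ext
  · simp
  · simp [t, add_comm]

theorem semi_norm (hA : ∀ a : A, p • a = 0) (hnd : ∀ a, (∀ w, b w a - b a w = 0) → a = 0)
    (y : H) (hy : ¬ p ∣ orderOf y) {χ : Semi hb → ℂ} (hχ : IsIrrCharacter (Semi hb) χ)
    (hres : IsIrrCharacter (SemidirectProduct.inl : Heis b →* Semi hb).range
      (fun n => χ (n : Semi hb)))
    {c : ℂ} (hcp : c ^ p = 1) (hc1 : c ≠ 1)
    (hz : ∀ g, χ (SemidirectProduct.inl (Heis.zel b) * g) = c * χ g) :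
    χ (SemidirectProduct.inr y) * conj (χ (SemidirectProduct.inr y)) =
      (Nat.card (fixSub A y) : ℂ) := by
  classical
  haveI := Fintype.ofFinite (Semi hb)
  haveI := Fintype.ofFinite (Heis b)
  haveI := Fintype.ofFinite A
  set N := (SemidirectProduct.inl : Heis b →* Semi hb).range with hN
  haveI : N.Normal := by
    rw [hN, SemidirectProduct.range_inl_eq_ker_rightHom]; exact MonoidHom.normal_ker _
  haveI := Fintype.ofFinite N
  have h1 := congrFun (InvCover.avgN_absSq N hχ hres) (SemidirectProduct.inr y)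
  rw [avgN, inv_mul_eq_iff_eq_mul₀ (Nat.cast_ne_zero.mpr Nat.card_pos.ne'), mul_one] at h1
  let eN : Heis b ≃* N :=
    MonoidHom.ofInjective (f := (SemidirectProduct.inl : Heis b →* Semi hb))
      SemidirectProduct.inl_injective
  rw [← Nat.card_congr eN.toEquiv, Heis.card_eq, ← Fintype.sum_equiv eN.toEquiv
    (fun e : Heis b => (χ * fun g => conj (χ g))
      (SemidirectProduct.inl e * SemidirectProduct.inr y)) _ fun e => rfl,
    ← Fintype.sum_equiv (Heis.equivProd b).symm (fun x : A × ZMod p => (χ * fun g => conj (χ g))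
      (SemidirectProduct.inl ⟨x.1, x.2⟩ * SemidirectProduct.inr y)) _ fun x => rfl,
    Fintype.sum_prod_type] at h1
  set h : A → ℝ := fun a =>
    ‖χ (SemidirectProduct.inl ⟨a, 0⟩ * SemidirectProduct.inr y)‖ ^ 2 with hh
  have hphase : ∀ a s, (χ * fun g => conj (χ g))
      (SemidirectProduct.inl ⟨a, s⟩ * SemidirectProduct.inr y) = (h a : ℂ) := by
    intro a s
    simp only [Pi.mul_apply, semi_val hz a s, Complex.mul_conj, Complex.normSq_eq_norm_sq, hh,
      norm_mul, norm_pow, Complex.norm_eq_one_of_pow_eq_one hcp hp.out.ne_zero, one_pow, one_mul]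
  simp only [hphase, Finset.sum_const, Finset.card_univ, ZMod.card, nsmul_eq_mul,
    ← Finset.mul_sum] at h1
  have hinv : ∀ a w, h (a + (w - y • w)) = h a := by
    intro a w
    have e := IsIrr.classFun hχ
      (SemidirectProduct.inl ⟨a, 0⟩ * SemidirectProduct.inr y) (SemidirectProduct.inl ⟨w, 0⟩)
    rw [conj_inl] at e
    set E := (⟨w, 0⟩ : Heis b) * ⟨a, 0⟩ * Heis.act hb y (⟨w, 0⟩ : Heis b)⁻¹ with hE
    have hE1 : E.fst = a + (w - y • w) := by
      simp [hE]
      abel
    have e2 := semi_val hz E.fst E.snd y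
    rw [show (⟨E.fst, E.snd⟩ : Heis b) = E from rfl, e] at e2
    simp only [hh, ← hE1, e2, norm_mul, norm_pow,
      Complex.norm_eq_one_of_pow_eq_one hcp hp.out.ne_zero, one_pow, one_mul]
  set I := (moveHom y : A →+ A).range
  have hsupp : ∀ a, h a = if a ∈ I then h 0 else 0 := by
    intro a
    split_ifs with ha
    · obtain ⟨w, rfl⟩ := ha
      simpa [moveHom] using hinv 0 w
    · obtain ⟨c', hc', w, hw⟩ := move_decomp hA y hy a
      have hc0 : c' ≠ 0 := fun e => ha ⟨w, by rw [hw, e, sub_zero]⟩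
      rw [show a = c' + (w - y • w) by
        rw [show w - y • w = moveHom y w from rfl, hw, add_sub_cancel], hinv]
      simp [hh, semi_vanish hA hnd y hy (IsIrr.classFun hχ) hcp hc1 hz hc' hc0]
  have hI : Nat.card I = (fixSub A y).index := by
    rw [← moveHom_ker, AddSubgroup.index_ker]
  have hsum : ∑ a, (h a : ℂ) = (Nat.card I : ℂ) * (h 0 : ℂ) := by
    rw [Finset.sum_congr rfl (g := fun a => if a ∈ I then (h 0 : ℂ) else 0) fun a _ => by
      rw [hsupp a, apply_ite Complex.ofReal]; simp]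
    rw [← Finset.sum_filter, Finset.sum_const, nsmul_eq_mul, ← Fintype.card_subtype,
      ← Nat.card_eq_fintype_card]
  have h0 : (h 0 : ℂ) = χ (SemidirectProduct.inr y) * conj (χ (SemidirectProduct.inr y)) := by
    rw [Complex.mul_conj, Complex.normSq_eq_norm_sq]
    simp only [hh]
    rw [show (⟨0, 0⟩ : Heis b) = 1 from rfl, map_one, one_mul]
  rw [hsum, h0, hI, ← (fixSub A y).card_mul_index] at h1
  refine mul_left_cancel₀ (a := (p : ℂ) * ((fixSub A y).index : ℂ)) ?_ ?_
  · exact mul_ne_zero (Nat.cast_ne_zero.mpr hp.out.ne_zero)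
      (Nat.cast_ne_zero.mpr AddSubgroup.index_ne_zero_of_finite)
  · push_cast at h1
    linear_combination h1

/-- The square of the value is divisible by the number of fixed points. -/
theorem semi_sq_integral (hA : ∀ a : A, p • a = 0) (hnd : ∀ a, (∀ w, b w a - b a w = 0) → a = 0)
    (y : H) (hy : ¬ p ∣ orderOf y) {χ : Semi hb → ℂ} (hχ : IsIrrCharacter (Semi hb) χ) {c : ℂ}
    (hcp : c ^ p = 1) (hc1 : c ≠ 1)
    (hz : ∀ g, χ (SemidirectProduct.inl (Heis.zel b) * g) = c * χ g)
    (hne : χ (SemidirectProduct.inr y) ≠ 0) :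
    IsIntegral ℤ (χ (SemidirectProduct.inr y) ^ 2 / (Nat.card (fixSub A y) : ℂ)) := by
  classical
  haveI := Fintype.ofFinite (Semi hb)
  set f := χ (SemidirectProduct.inr y) with hf
  -- the fixed subgroup of the nilpotent group
  let E : Subgroup (Heis b) :=
    { carrier := {e | Heis.act hb y e = e}
      mul_mem' := fun {u w} hu hw => by
        show Heis.act hb y (u * w) = u * w
        rw [map_mul, hu, hw]
      one_mem' := map_one _
      inv_mem' := fun {u} hu => by
        show Heis.act hb y u⁻¹ = u⁻¹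
        rw [map_inv, hu] }
  haveI := Fintype.ofFinite E
  have hEmem : ∀ e : Heis b, e ∈ E ↔ e.fst ∈ fixSub A y := fun e =>
    ⟨fun h => congrArg Heis.fst h, fun h => Heis.ext h rfl⟩
  let eE : E ≃ fixSub A y × ZMod p :=
    { toFun := fun e => (⟨e.1.fst, (hEmem _).mp e.2⟩, e.1.snd)
      invFun := fun x => ⟨⟨x.1, x.2⟩, (hEmem _).mpr x.1.2⟩
      left_inv := fun e => rfl
      right_inv := fun x => rfl }
  have hEcard : Nat.card E = Nat.card (fixSub A y) * p := by
    rw [Nat.card_congr eE, Nat.card_prod, Nat.card_zmod]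
  set Y' : Semi hb := SemidirectProduct.inr y with hY'
  set L := Subgroup.centralizer ({Y'} : Set (Semi hb)) with hL
  haveI := Fintype.ofFinite L
  let ι : E →* L :=
    { toFun := fun e => ⟨SemidirectProduct.inl e.1, Subgroup.mem_centralizer_singleton_iff.mpr (by
        apply SemidirectProduct.ext
        · simp [hY', show Heis.act hb y e.1 = e.1 from e.2]
        · simp [hY'])⟩
      map_one' := Subtype.ext (map_one _)
      map_mul' := fun u w => Subtype.ext (map_mul _ _ _) }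
  have hYL : Y' ∈ L := Subgroup.mem_centralizer_singleton_iff.mpr rfl
  have hYc : (⟨Y', hYL⟩ : L) ∈ Subgroup.center L := Subgroup.mem_center_iff.mpr fun g =>
    Subtype.ext (Subgroup.mem_centralizer_singleton_iff.mp g.2)
  obtain ⟨a, -, hdec⟩ := IsChar.exists_decomp_inner (IsChar.res (IsIrr.isCharacter hχ) L)
  choose s hs1 hs using fun φ : IrrCharacter L => IsIrr.scalar_of_center φ.2 hYc
  have hsint : ∀ φ : IrrCharacter L, IsIntegral ℤ (s φ) := fun φ => by
    refine isIntegral_of_pow_eq_one (orderOf_pos (⟨Y', hYL⟩ : L)) ?_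
    have h1 := scalar_pow (hs φ) (orderOf (⟨Y', hYL⟩ : L)) 1
    rw [pow_orderOf_eq_one, mul_one] at h1
    exact mul_right_cancel₀ (IsIrr.one_ne_zero φ.2) (h1.symm.trans (one_mul _).symm)
  set g : E → ℂ := fun e => χ (SemidirectProduct.inl e.1 * Y') with hg
  have hgcomb : AlgComb g := by
    have : g = ∑ φ : IrrCharacter L, ((a φ : ℂ) * s φ) • fun e : E => (φ : L → ℂ) (ι e) := by
      funext e
      have h1 := congrFun hdec (⟨Y', hYL⟩ * ι e)
      have h2 : ((⟨Y', hYL⟩ * ι e : L) : Semi hb) = SemidirectProduct.inl e.1 * Y' :=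
        (Subgroup.mem_centralizer_singleton_iff.mp (ι e).2).symm
      simp only [h2] at h1
      rw [hg]
      simp only [h1, Finset.sum_apply, Pi.smul_apply, smul_eq_mul, hs]
      exact Finset.sum_congr rfl fun φ _ => (mul_assoc _ _ _).symm
    rw [this]
    exact AlgComb.sum fun φ _ => (AlgComb.of_char (IsChar.comp ι (IsIrr.isCharacter φ.2))).smul
      ((show IsIntegral ℤ ((a φ : ℕ) : ℂ) by
        simpa using isIntegral_algebraMap (R := ℤ) (A := ℂ) (x := ((a φ : ℕ) : ℤ))).mul (hsint φ))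
  have hg1 : g 1 = f := by simp [hg, hf, hY']
  obtain ⟨ξ, hξ⟩ : ∃ ξ : IrrCharacter E, classInner g (ξ : E → ℂ) ≠ 0 := by
    by_contra hno
    push Not at hno
    refine hne ?_
    rw [← hg1, classFunction_expansion (comb_classFun hgcomb)]
    simp [hno]
  obtain ⟨d', hd'0, hd'⟩ := IsIrr.one_eq_pos ξ.2
  have hzE : Heis.zel b ∈ E := (hEmem _).mpr (zero_mem _)
  set zE : E := ⟨Heis.zel b, hzE⟩
  have hzEc : zE ∈ Subgroup.center E := Subgroup.mem_center_iff.mpr fun e =>
    Subtype.ext (Subgroup.mem_center_iff.mp Heis.zel_mem_center (e : Heis b))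
  obtain ⟨c', hc', hcs⟩ := IsIrr.scalar_of_center ξ.2 hzEc
  have hc'p : c' ^ p = 1 := by
    have h1 := scalar_pow hcs p 1
    have h2 : zE ^ p = 1 := Subtype.ext (by
      rw [Subgroup.coe_pow]
      show Heis.zel b ^ p = 1
      rw [Heis.zel_pow, ZMod.natCast_self]
      rfl)
    rw [h2, mul_one, hd'] at h1
    exact mul_right_cancel₀ (Nat.cast_ne_zero.mpr hd'0.ne') (h1.symm.trans (one_mul _).symm)
  have hξ0 : ∀ t : ZMod p, (ξ : E → ℂ) (eE.symm (0, t)) = c' ^ t.val * d' := by
    intro t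
    have : eE.symm (0, t) = zE ^ t.val * 1 := Subtype.ext (by
      rw [mul_one, Subgroup.coe_pow]
      show (⟨0, t⟩ : Heis b) = Heis.zel b ^ t.val
      rw [Heis.zel_pow_val])
    rw [this, scalar_pow hcs, hd']
  have hg0 : ∀ t : ZMod p, g (eE.symm (0, t)) = c ^ t.val * f := by
    intro t
    show χ (SemidirectProduct.inl ⟨0, t⟩ * SemidirectProduct.inr y) = _
    rw [semi_val hz, show (⟨0, 0⟩ : Heis b) = 1 from rfl, map_one, one_mul]
  have hinner : classInner g (ξ : E → ℂ) = (Nat.card E : ℂ)⁻¹ *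
      (f * d' * ∑ t : ZMod p, (c * conj c') ^ t.val) := by
    letI := Fintype.ofFinite (fixSub A y)
    rw [classInner, ← Fintype.sum_equiv eE.symm (fun x => g (eE.symm x) * conj ((ξ : E → ℂ) (eE.symm x)))
      _ fun x => rfl]
    rw [Fintype.sum_prod_type, Finset.sum_eq_single 0 (fun a' _ ha' => Finset.sum_eq_zero fun t _ => ?_)
      (fun h => absurd (Finset.mem_univ _) h)]
    · congr 1
      rw [Finset.mul_sum]
      refine Finset.sum_congr rfl fun t _ => ?_
      rw [hg0, hξ0, map_mul, map_pow, map_natCast, mul_pow]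
      ring
    · show χ (SemidirectProduct.inl ⟨(a' : A), t⟩ * SemidirectProduct.inr y) * _ = 0
      rw [semi_vanish hA hnd y hy (IsIrr.classFun hχ) hcp hc1 hz a'.2 (fun e => ha' (Subtype.ext e)),
        zero_mul]
  have hwp : (c * conj c') ^ p = 1 := by rw [mul_pow, hcp, ← map_pow, hc'p, map_one, one_mul]
  have hw1 : c * conj c' = 1 := by
    by_contra hw
    refine hξ ?_
    rw [hinner]
    let ζ : AddChar (ZMod p) ℂ := AddChar.zmodChar p hwp
    have : ∑ t : ZMod p, (c * conj c') ^ t.val = 0 := by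
      have h1 : ζ ≠ 1 := fun h => hw (by
        have := DFunLike.congr_fun h 1
        rwa [AddChar.zmodChar_apply, ZMod.val_one, pow_one, AddChar.one_apply] at this)
      simpa [ζ, AddChar.zmodChar_apply] using AddChar.sum_eq_zero_of_ne_one h1
    rw [this, mul_zero, mul_zero]
  have hint : IsIntegral ℤ (f * d' / (Nat.card (fixSub A y) : ℂ)) := by
    have h1 := comb_inner hgcomb ξ
    rw [hinner, hEcard] at h1
    simp only [hw1, one_pow, Finset.sum_const, Finset.card_univ, ZMod.card, nsmul_eq_mul,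
      mul_one, Nat.cast_mul] at h1
    convert h1 using 1
    have : (p : ℂ) ≠ 0 := Nat.cast_ne_zero.mpr hp.out.ne_zero
    field_simp
  -- the degree
  obtain ⟨k, hk⟩ : ∃ k, Nat.card (fixSub A y) = p ^ k := by
    obtain ⟨n, hn⟩ := fix_card p A hA
    obtain ⟨k, -, hk, -⟩ := hn (fixSub A y)
    exact ⟨k, hk⟩
  obtain ⟨i, -, hi⟩ := (Nat.dvd_prime_pow hp.out).mp
    (show d' ∣ p ^ (k + 1) by
      rw [pow_succ, ← hk, ← hEcard]; exact IsIrr.degree_dvd_card ξ.2 hd')
  have hd2 : d' * d' ≤ Nat.card (fixSub A y) := by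
    have h1 := classInner_self_irr ξ.2
    rw [classInner_self, Complex.ofReal_eq_one, inv_mul_eq_iff_eq_mul₀
      (Nat.cast_ne_zero.mpr Nat.card_pos.ne'), mul_one] at h1
    have h2 : ∑ t : ZMod p, ‖(ξ : E → ℂ) (eE.symm (0, t))‖ ^ 2 ≤ ∑ e : E, ‖(ξ : E → ℂ) e‖ ^ 2 := by
      let emb : ZMod p ↪ E :=
        ⟨fun t => eE.symm (0, t), fun t t' h => (Prod.ext_iff.mp (eE.symm.injective h)).2⟩
      calc ∑ t : ZMod p, ‖(ξ : E → ℂ) (eE.symm (0, t))‖ ^ 2
          = ∑ e ∈ Finset.univ.map emb, ‖(ξ : E → ℂ) e‖ ^ 2 := (Finset.sum_map Finset.univ emb fun e : E => ‖(ξ : E → ℂ) e‖ ^ 2).symm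
        _ ≤ _ := Finset.sum_le_sum_of_subset_of_nonneg (Finset.subset_univ _) fun e _ _ => sq_nonneg _
    simp only [hξ0, norm_mul, norm_pow, hc', one_pow, one_mul, Complex.norm_natCast,
      Finset.sum_const, Finset.card_univ, ZMod.card, nsmul_eq_mul, h1, hEcard, Nat.cast_mul] at h2
    have h3 : ((p * (d' * d') : ℕ) : ℝ) ≤ ((p * Nat.card (fixSub A y) : ℕ) : ℝ) := by
      push_cast; nlinarith
    exact Nat.le_of_mul_le_mul_left (by exact_mod_cast h3) hp.out.pos
  have h2i : 2 * i ≤ k := by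
    rw [hi, ← pow_add, hk] at hd2
    have := (Nat.pow_le_pow_iff_right hp.out.one_lt).mp hd2
    omega
  have hfin : f ^ 2 / (Nat.card (fixSub A y) : ℂ) =
      ((p ^ (k - 2 * i) : ℕ) : ℂ) * (f * d' / (Nat.card (fixSub A y) : ℂ)) ^ 2 := by
    rw [hk, hi]
    obtain ⟨j, rfl⟩ := Nat.exists_eq_add_of_le h2i
    rw [Nat.add_sub_cancel_left]
    have hpne : (p : ℂ) ≠ 0 := Nat.cast_ne_zero.mpr hp.out.ne_zero
    push_cast
    rw [pow_add, pow_mul']
    field_simp
  rw [hfin]
  exact (show IsIntegral ℤ (((p ^ (k - 2 * i) : ℕ) : ℂ)) by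
    simpa using isIntegral_algebraMap (R := ℤ) (A := ℂ) (x := ((p ^ (k - 2 * i) : ℕ) : ℤ))).mul
      (hint.pow 2)

theorem semi_span (y : H) {χ : Semi hb → ℂ} (hχ : IsCharacter (Semi hb) χ) {N : ℕ} (hN0 : 0 < N)
    (hN : Nat.card H ∣ N) : χ (SemidirectProduct.inr y) ∈ cycSpan N := by
  haveI := Fintype.ofFinite (Semi hb)
  obtain ⟨n, ρ, rfl⟩ := hχ
  obtain ⟨B, c, -, hc, hk⟩ := exists_rep_eigenbasis ρ (SemidirectProduct.inr y : Semi hb)
  have h1 := hk 1
  simp only [pow_one] at h1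
  rw [h1]
  refine sum_mem fun i _ => root_mem_cycSpan hN0 ?_
  obtain ⟨j, hj⟩ := ((orderOf_map_dvd (SemidirectProduct.inr : H →* Semi hb) y).trans
    (orderOf_dvd_natCard y)).trans hN
  rw [hj, pow_mul, hc, one_pow]

theorem alt_good (hpH : ¬ p ∣ Nat.card H) {M : Ideal AlgInt} (hM : IsPModular p M) {N : ℕ}
    (hN0 : 0 < N) (hN : Nat.card H ∣ N) (hA : ∀ a : A, p • a = 0) (Ω : A →+ A →+ ZMod p)
    (halt : ∀ a, Ω a a = 0) (hinv : ∀ (y : H) a b, Ω (y • a) (y • b) = Ω a b)
    (hndΩ : ∀ a, (∀ b, Ω a b = 0) → a = 0) :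
    ∃ η : H → ℂ, Good p N M η (fun y => (fixSub A y).index) := by
  classical
  obtain ⟨b, hb, hdiff⟩ := exists_half hpH hA Ω halt hinv
  have hnd : ∀ a, (∀ w, b w a - b a w = 0) → a = 0 := fun a ha => hndΩ a fun w => by
    rw [← hdiff, ← neg_sub, ha w, neg_zero]
  haveI := Fintype.ofFinite A
  haveI := Fintype.ofFinite (Heis b)
  haveI := Fintype.ofFinite (Semi hb)
  have hord : ∀ y : H, ¬ p ∣ orderOf y := fun y h => hpH (h.trans (orderOf_dvd_natCard y))
  obtain ⟨ξ, c, d, hξ, hcp, hc1, hd, hd2, hoff, hon⟩ := heis_irr hnd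
  set Nn := (SemidirectProduct.inl : Heis b →* Semi hb).range with hNn
  haveI : Nn.Normal := by
    rw [hNn, SemidirectProduct.range_inl_eq_ker_rightHom]; exact MonoidHom.normal_ker _
  let eN : Heis b ≃* Nn :=
    MonoidHom.ofInjective (f := (SemidirectProduct.inl : Heis b →* Semi hb))
      SemidirectProduct.inl_injective
  set θ : Nn → ℂ := fun n => ξ (eN.symm n) with hθdef
  have hθ : IsIrrCharacter Nn θ := IsIrr.comp_mulEquiv eN.symm hξ
  have hidx : Nn.index = Nat.card H := by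
    rw [hNn, SemidirectProduct.range_inl_eq_ker_rightHom, Subgroup.index_ker,
      MonoidHom.range_eq_top.mpr SemidirectProduct.rightHom_surjective, Subgroup.card_top]
  have hact : ∀ (y : H) (e : Heis b), ξ (Heis.act hb y e) = ξ e := by
    intro y e
    obtain ⟨a, s⟩ := e
    by_cases ha : a = 0
    · subst ha
      congr 1
      ext <;> simp
    · rw [hoff a s ha, show Heis.act hb y ⟨a, s⟩ = ⟨y • a, s⟩ from rfl, hoff]
      exact fun e => ha (by simpa using congrArg (fun t => y⁻¹ • t) e)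
  have hstab : ∀ (g : Semi hb) (n : Nn),
      θ ⟨g * n * g⁻¹, ‹Nn.Normal›.conj_mem (n : Semi hb) n.2 g⟩ = θ n := by
    intro g n
    obtain ⟨e, rfl⟩ := eN.surjective n
    have h1 : (⟨g * (eN e : Semi hb) * g⁻¹, ‹Nn.Normal›.conj_mem _ (eN e).2 g⟩ : Nn) =
        eN (g.left * Heis.act hb g.right e * g.left⁻¹) := Subtype.ext (by
      show g * SemidirectProduct.inl e * g⁻¹ = SemidirectProduct.inl _
      apply SemidirectProduct.ext <;> simp [mul_assoc])
    simp only [hθdef]
    rw [h1, MulEquiv.symm_apply_apply, MulEquiv.symm_apply_apply, IsIrr.classFun hξ, hact]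
  have hd' : θ 1 = (d : ℂ) := by rw [hθdef]; simp only [map_one, hd]
  have hdet : orderOf (detChar θ) ∣ Nat.card Nn := by
    obtain ⟨l, hl⟩ := isCharacter_detChar hθ
    refine orderOf_dvd_of_pow_eq_one (funext fun m => ?_)
    rw [hl, Pi.pow_apply, ← Units.val_pow_eq_pow_val, ← map_pow, pow_card_eq_one', map_one]
    rfl
  obtain ⟨n, hn⟩ := fix_card p A hA
  obtain ⟨nA, hnA⟩ := card_p_group p A hA
  have hcop : ∀ {m : ℕ}, m ∣ Nat.card Nn → Nat.Coprime (Nat.card H) m := fun {m} hm => by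
    rw [← Nat.card_congr eN.toEquiv, Heis.card_eq, hnA, ← pow_succ] at hm
    exact ((((hp.out.coprime_iff_not_dvd).mpr hpH).pow_left (nA + 1)).coprime_dvd_left hm).symm
  obtain ⟨χ, hχ, hres⟩ := Ext.exists_extension_of_witness hθ hstab hd' fun r hr =>
    Ext.witness_of_coprime hθ (by
      rw [hidx]
      exact Nat.Coprime.mul_right (hcop hdet) (hcop (IsIrr.degree_dvd_card hθ hd'))) hr
  have hresirr : IsIrrCharacter Nn (fun m => χ (m : Semi hb)) := by
    rw [show (fun m : Nn => χ (m : Semi hb)) = θ from funext hres]; exact hθ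
  have hinl : ∀ e, χ (SemidirectProduct.inl e) = ξ e := fun e => by
    rw [show SemidirectProduct.inl e = ((eN e : Nn) : Semi hb) from rfl, hres, hθdef]
    simp
  obtain ⟨c0, -, hc0⟩ := IsIrr.scalar_of_center hχ (zel_central hb)
  have hzv : χ (SemidirectProduct.inl (Heis.zel b)) = c * d := by
    rw [hinl, Heis.zel, hon, ZMod.val_one, pow_one]
  have hd0 : (d : ℂ) ≠ 0 := by rw [← hd]; exact IsIrr.one_ne_zero hξ
  have hχ1 : χ 1 = (d : ℂ) := by rw [← map_one (SemidirectProduct.inl : Heis b →* Semi hb), hinl, hd]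
  have hc0c : c0 = c := by
    have h1 := hc0 1
    rw [mul_one, hzv, hχ1] at h1
    exact (mul_right_cancel₀ hd0 h1).symm
  subst hc0c
  set f : H → ℂ := fun y => χ (SemidirectProduct.inr y) with hf
  have hnorm : ∀ y, f y * conj (f y) = (Nat.card (fixSub A y) : ℂ) := fun y =>
    semi_norm hA hnd y (hord y) hχ hresirr hcp hc1 hc0
  have hfne : ∀ y, f y ≠ 0 := fun y h0 => by
    have := hnorm y
    rw [h0, zero_mul] at this
    exact Nat.card_pos.ne' (Nat.cast_eq_zero.mp this.symm)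
  set η : H → ℂ := fun y => (d : ℂ) / f y with hη
  have hcard : ∀ y : H, ((d : ℂ)) ^ 2 = (Nat.card (fixSub A y) : ℂ) * ((fixSub A y).index : ℂ) := by
    intro y
    rw [← Nat.cast_mul, AddSubgroup.card_mul_index, sq, ← Nat.cast_mul, hd2]
  have hsq : ∀ y, η y ^ 2 = ((fixSub A y).index : ℂ) *
      conj (f y ^ 2 / (Nat.card (fixSub A y) : ℂ)) := by
    intro y
    have hC : (Nat.card (fixSub A y) : ℂ) ≠ 0 := Nat.cast_ne_zero.mpr Nat.card_pos.ne'
    have hfy := hfne y
    rw [map_div₀, map_natCast, map_pow]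
    simp only [hη]
    field_simp
    linear_combination (Nat.card (fixSub A y) : ℂ) * hcard y -
      ((fixSub A y).index : ℂ) * (f y * conj (f y) + (Nat.card (fixSub A y) : ℂ)) * hnorm y
  have hr : ∀ y, IsIntegral ℤ (conj (f y ^ 2 / (Nat.card (fixSub A y) : ℂ))) := fun y =>
    (semi_sq_integral hA hnd y (hord y) hχ hcp hc1 hc0 (hfne y)).map
      (starRingEnd ℂ).toIntAlgHom
  have hηint : ∀ y, IsIntegral ℤ (η y) := fun y => by
    refine IsIntegral.of_pow two_pos ?_
    rw [hsq y]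
    exact (show IsIntegral ℤ (((fixSub A y).index : ℕ) : ℂ) by
      simpa using isIntegral_algebraMap (R := ℤ) (A := ℂ) (x := (((fixSub A y).index : ℕ) : ℤ))).mul (hr y)
  have hfchar : IsCharacter H f := IsChar.comp SemidirectProduct.inr (IsIrr.isCharacter hχ)
  have hfconj : AlgComb (fun y => conj (f y)) := AlgComb.of_char (IsChar.conj hfchar)
  refine ⟨η, ?_, ?_, fun y => ?_, fun y σ => ?_, fun y hy => ?_⟩
  · refine comb_of_mul hpH n (comb_mul (AlgComb.of_char hfchar) hfconj) (fun y => ?_)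
      (g := fun y => (d : ℂ) * conj (f y)) (hfconj.smul ?_) (fun y => ?_) hηint
    · obtain ⟨k, hk, hk', -⟩ := hn (fixSub A y)
      refine ⟨k, hk, ?_⟩
      show f y * conj (f y) = _
      rw [hnorm y, hk', Nat.cast_pow]
    · simpa using isIntegral_algebraMap (R := ℤ) (A := ℂ) (x := ((d : ℕ) : ℤ))
    · show η y * (f y * conj (f y)) = _
      rw [hη, ← mul_assoc, div_mul_cancel₀ _ (hfne y)]
  · show (d : ℂ) / χ (SemidirectProduct.inr (1 : H)) = 1
    rw [map_one, hχ1, div_self hd0]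
  · exact div_mem (natCast_mem _ d) (semi_span y (IsIrr.isCharacter hχ) hN0 hN)
  · have hres' : IsIrrCharacter Nn (fun m => σ (χ (m : Semi hb))) := IsIrr.map_ringAut hresirr σ
    have h1 := semi_norm hA hnd y (hord y) (IsIrr.map_ringAut hχ σ) hres'
      (c := σ c0) (by rw [← map_pow, hcp, map_one]) (fun e => hc1 (σ.injective (e.trans (map_one σ).symm)))
      (fun g => by rw [hc0, map_mul])
    rw [Complex.mul_conj] at h1
    have h2 : Complex.normSq (σ (f y)) = (Nat.card (fixSub A y) : ℝ) := by exact_mod_cast h1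
    simp only [hη, map_div₀, map_natCast, h2, Complex.normSq_natCast]
    rw [← Nat.cast_mul, hd2, ← (fixSub A y).card_mul_index, Nat.cast_mul,
      mul_div_cancel_left₀ _ (Nat.cast_ne_zero.mpr Nat.card_pos.ne')]
  · haveI := hM.2.1
    refine ⟨⟨η y, hηint y⟩, (Ideal.IsMaximal.isPrime hM.2.1).mem_of_pow_mem 2 ?_, rfl⟩
    have e : (⟨η y, hηint y⟩ : AlgInt) ^ 2 = ((fixSub A y).index : AlgInt) * ⟨_, hr y⟩ :=
      Subtype.ext (by simpa using hsq y)
    rw [e]
    refine M.mul_mem_right _ ((natCast_mem_iff hM _).mpr ?_)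
    obtain ⟨k, -, -, j, hj⟩ := hn (fixSub A y)
    rw [hj] at hy ⊢
    exact dvd_pow_self p fun h0 => hy (by rw [h0, pow_zero])

end Cfsg.Agent.Block.KGVReal
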