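import Cfsg.Agent.Lib.Char.SectionSpan
import Cfsg.Agent.Lib.Char.ModP
import Cfsg.Agent.Lib.Block.KGV.Conjugates

/-!
Functions on a group of order prime to `p`, combinations of characters with algebraic-integer
coefficients, obtained by dividing by a power-of-`p` valued function; the data used by the
real-vector criterion.
-/

namespace Cfsg.Agent.Block.KGVReal

open scoped ComplexConjugate
open Cfsg Cfsg.Agent.Char Cfsg.Agent.Block.KGV
open Cfsg.Agent.Char.Brauer (AlgComb)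

universe u

variable {H : Type u} [Group H] [Fintype H]

theorem comb_value {f : H → ℂ} (hf : AlgComb f) (y : H) : IsIntegral ℤ (f y) := by
  obtain ⟨a, ha, rfl⟩ := hf
  simp only [Finset.sum_apply, Pi.smul_apply, smul_eq_mul]
  exact IsIntegral.sum _ fun χ _ => (ha χ).mul (IsChar.isIntegral (IsIrr.isCharacter χ.2) y)

theorem comb_classFun {f : H → ℂ} (hf : AlgComb f) : IsClassFunction H f := by
  obtain ⟨a, -, rfl⟩ := hf
  exact classFunction_sum fun χ _ => classFunction_smul _ (IsIrr.classFun χ.2)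

theorem comb_inner {f : H → ℂ} (hf : AlgComb f) (ψ : IrrCharacter H) :
    IsIntegral ℤ (classInner f (ψ : H → ℂ)) := by
  obtain ⟨a, ha, rfl⟩ := hf
  rw [classInner_sum_irr]
  exact ha ψ

theorem comb_mul {f g : H → ℂ} (hf : AlgComb f) (hg : AlgComb g) : AlgComb (f * g) := by
  obtain ⟨b, hb, rfl⟩ := hg
  rw [Finset.mul_sum]
  refine AlgComb.sum fun χ _ => ?_
  rw [mul_smul_comm]
  exact (hf.mul_char (IsIrr.isCharacter χ.2)).smul (hb χ)

theorem comb_one : AlgComb (1 : H → ℂ) := AlgComb.of_char IsChar.one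

theorem comb_const {z : ℂ} (hz : IsIntegral ℤ z) : AlgComb (fun _ : H => z) := by
  have h := (comb_one (H := H)).smul hz
  convert h using 1
  funext y
  simp

theorem comb_sub {f g : H → ℂ} (hf : AlgComb f) (hg : AlgComb g) : AlgComb (f - g) := by
  rw [sub_eq_add_neg]
  exact hf.add hg.neg

/-- An inverse of a function with values powers of `p`, up to a constant. -/
theorem comb_inverse {p : ℕ} (n : ℕ) {f : H → ℂ} (hf : AlgComb f)
    (hv : ∀ y, ∃ k ≤ n, f y = (p : ℂ) ^ k) :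
    ∃ (Q : H → ℂ) (e : ℕ), AlgComb Q ∧ ∀ y, f y * Q y = (p : ℂ) ^ e := by
  suffices h : ∀ n : ℕ, ∃ (Q : H → ℂ) (e : ℕ) (s : ℤ), s * s = 1 ∧ AlgComb Q ∧
      ∀ y, ∀ k ≤ n, f y = (p : ℂ) ^ k → f y * Q y = (s : ℂ) * (p : ℂ) ^ e by
    obtain ⟨Q, e, s, hs, hQ, h⟩ := h n
    refine ⟨fun y => (s : ℂ) * Q y, e, ?_, fun y => ?_⟩
    · have hs' : IsIntegral ℤ ((s : ℤ) : ℂ) := by simpa using isIntegral_algebraMap (R := ℤ) (A := ℂ) (x := s)
      exact hQ.smul hs'
    · obtain ⟨k, hk, hfy⟩ := hv y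
      have h1 := h y k hk hfy
      have hsC : (s : ℂ) * (s : ℂ) = 1 := by exact_mod_cast hs
      rw [mul_left_comm, h1, ← mul_assoc, hsC, one_mul]
  intro n
  induction n with
  | zero =>
    refine ⟨fun _ => 1, 0, 1, by norm_num, comb_one, fun y k hk h => ?_⟩
    rw [Nat.le_zero.mp hk, pow_zero] at h
    simp [h]
  | succ m ih =>
    obtain ⟨Q, e, s, hs, hQ, hQv⟩ := ih
    have hp : IsIntegral ℤ ((p : ℂ) ^ (m + 1)) :=
      (isIntegral_algebraMap (R := ℤ) (A := ℂ) (x := (p : ℤ))).pow (m + 1) |> fun h => by simpa using h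
    have hr : IsIntegral ℤ ((s : ℂ) * (p : ℂ) ^ e) :=
      (show IsIntegral ℤ ((s : ℤ) : ℂ) by
        simpa using isIntegral_algebraMap (R := ℤ) (A := ℂ) (x := s)).mul
        ((isIntegral_algebraMap (R := ℤ) (A := ℂ) (x := (p : ℤ))).pow e |> fun h => by simpa using h)
    refine ⟨fun y => Q y * (f y - (p : ℂ) ^ (m + 1)) - (s : ℂ) * (p : ℂ) ^ e, e + (m + 1), -s * 1 * (-1) * (-1),
      by linear_combination hs, comb_sub (comb_mul hQ (comb_sub hf (comb_const hp))) (comb_const hr),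
      fun y k hk h => ?_⟩
    push_cast
    rcases Nat.lt_or_eq_of_le hk with hk | rfl
    · have h1 := hQv y k (by omega) h
      rw [pow_add]
      linear_combination (f y - (p : ℂ) ^ (m + 1)) * h1
    · rw [h, pow_add]
      ring

/-- A class function with integral values, equal to a combination divided by such a function. -/
theorem comb_of_mul {p : ℕ} [hp : Fact p.Prime] (hpH : ¬ p ∣ Nat.card H) (n : ℕ) {η f g : H → ℂ}
    (hf : AlgComb f) (hv : ∀ y, ∃ k ≤ n, f y = (p : ℂ) ^ k) (hg : AlgComb g)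
    (heq : ∀ y, η y * f y = g y) (hint : ∀ y, IsIntegral ℤ (η y)) : AlgComb η := by
  obtain ⟨Q, e, hQ, hfQ⟩ := comb_inverse n hf hv
  have hne : ∀ y, f y ≠ 0 := fun y => by
    obtain ⟨k, -, hk⟩ := hv y
    rw [hk]
    exact pow_ne_zero _ (Nat.cast_ne_zero.mpr hp.out.ne_zero)
  have hcl : IsClassFunction H η := fun y x => by
    refine mul_right_cancel₀ (hne y) ?_
    rw [heq y]
    conv_lhs => rw [← comb_classFun hf y x]
    rw [heq, comb_classFun hg y x]
  refine AlgComb.of_classFun hcl fun ψ => ?_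
  set z := classInner η (ψ : H → ℂ) with hz
  have h1 : IsIntegral ℤ ((Nat.card H : ℂ) * z) := by
    rw [hz, classInner, mul_inv_cancel_left₀ (Nat.cast_ne_zero.mpr Nat.card_pos.ne')]
    refine IsIntegral.sum _ fun y _ => (hint y).mul ?_
    rw [← IsIrr.apply_inv ψ.2]
    exact IsChar.isIntegral (IsIrr.isCharacter ψ.2) _
  have h2 : IsIntegral ℤ (((p ^ e : ℕ) : ℂ) * z) := by
    have : classInner (g * Q) (ψ : H → ℂ) = ((p ^ e : ℕ) : ℂ) * z := by
      rw [hz, ← classInner_smul_left]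
      congr 1
      funext y
      simp only [Pi.mul_apply, Pi.smul_apply, smul_eq_mul, ← heq y, Nat.cast_pow]
      rw [mul_assoc, hfQ y, mul_comm]
    rw [← this]
    exact comb_inner (comb_mul hg hQ) ψ
  have hcop : Nat.Coprime (Nat.card H) (p ^ e) :=
    (((hp.out.coprime_iff_not_dvd).mpr hpH).pow_left e).symm
  obtain ⟨a, b, hab⟩ := Int.isCoprime_iff_nat_coprime.mpr
    (show Nat.Coprime ((Nat.card H : ℤ)).natAbs ((p ^ e : ℕ) : ℤ).natAbs by simpa using hcop)
  have habC : (a : ℂ) * (Nat.card H : ℂ) + (b : ℂ) * ((p ^ e : ℕ) : ℂ) = 1 := by exact_mod_cast hab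
  have : z = (a : ℂ) * ((Nat.card H : ℂ) * z) + (b : ℂ) * (((p ^ e : ℕ) : ℂ) * z) := by
    linear_combination (-z) * habC
  rw [this]
  exact ((show IsIntegral ℤ ((a : ℤ) : ℂ) by
      simpa using isIntegral_algebraMap (R := ℤ) (A := ℂ) (x := a)).mul h1).add
    ((show IsIntegral ℤ ((b : ℤ) : ℂ) by
      simpa using isIntegral_algebraMap (R := ℤ) (A := ℂ) (x := b)).mul h2)

/-- A `p`-th root of unity is congruent to one. -/
theorem root_sub_one_mem {p : ℕ} {M : Ideal AlgInt} (hM : IsPModular p M) {a : AlgInt}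
    (ha : a ^ p = 1) : a - 1 ∈ M := by
  haveI := hM.2.1
  obtain ⟨r, hr⟩ := exists_add_pow_prime_eq hM.1 (a - 1) (1 : AlgInt)
  rw [sub_add_cancel, ha, one_pow] at hr
  refine (Ideal.IsMaximal.isPrime hM.2.1).mem_of_pow_mem p ?_
  rw [show (a - 1) ^ p = -((p : AlgInt) * (a - 1) * 1 * r) by linear_combination -hr]
  exact M.neg_mem (M.mul_mem_right _ (M.mul_mem_right _ (M.mul_mem_right _ hM.2.2)))

/-- The data of the criterion: a combination, equal to one at the identity, small in every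
conjugate, and lying in `M` wherever the bound is not one. -/
structure Good (p N : ℕ) (M : Ideal AlgInt) (η : H → ℂ) (cap : H → ℕ) : Prop where
  comb : AlgComb η
  one : η 1 = 1
  span : ∀ y, η y ∈ cycSpan N
  bound : ∀ (y : H) (σ : ℂ ≃+* ℂ), Complex.normSq (σ (η y)) ≤ (cap y : ℝ)
  mem : ∀ y, cap y ≠ 1 → ∃ b ∈ M, (b : ℂ) = η y

theorem Good.const {p N : ℕ} {M : Ideal AlgInt} :
    Good p N M (fun _ : H => (1 : ℂ)) (fun _ => 1) where
  comb := comb_const isIntegral_one
  one := rfl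
  span _ := one_mem _
  bound y σ := by simp
  mem y h := absurd rfl h

theorem Good.mul {p N : ℕ} {M : Ideal AlgInt} {η₁ η₂ : H → ℂ} {c₁ c₂ : H → ℕ}
    (h₁ : Good p N M η₁ c₁) (h₂ : Good p N M η₂ c₂) : Good p N M (η₁ * η₂) (c₁ * c₂) where
  comb := comb_mul h₁.comb h₂.comb
  one := by simp [h₁.one, h₂.one]
  span y := mul_mem (h₁.span y) (h₂.span y)
  bound y σ := by
    simp only [Pi.mul_apply, map_mul, Nat.cast_mul]
    exact mul_le_mul (h₁.bound y σ) (h₂.bound y σ) (Complex.normSq_nonneg _) (Nat.cast_nonneg _)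
  mem y h := by
    by_cases e₁ : c₁ y = 1
    · obtain ⟨b, hb, hbe⟩ := h₂.mem y fun e₂ => h (by simp [e₁, e₂])
      exact ⟨⟨η₁ y, comb_value h₁.comb y⟩ * b, M.mul_mem_left _ hb, by simp [hbe]⟩
    · obtain ⟨b, hb, hbe⟩ := h₁.mem y e₁
      exact ⟨b * ⟨η₂ y, comb_value h₂.comb y⟩, M.mul_mem_right _ hb, by simp [hbe]⟩

/-- The fixed subgroup of an element. -/
def fixSub (A : Type*) [AddCommGroup A] [DistribMulAction H A] (y : H) : AddSubgroup A where
  carrier := {a | y • a = a}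
  add_mem' {a b} ha hb := by
    show y • (a + b) = a + b
    rw [smul_add, ha, hb]
  zero_mem' := smul_zero y
  neg_mem' {a} ha := by
    show y • (-a) = -a
    rw [smul_neg, ha]

theorem mem_fixSub {A : Type*} [AddCommGroup A] [DistribMulAction H A] {y : H} {a : A} :
    a ∈ fixSub A y ↔ y • a = a := Iff.rfl

theorem card_p_group (p : ℕ) [hp : Fact p.Prime] (A : Type*) [AddCommGroup A] [Finite A]
    (hA : ∀ a : A, p • a = 0) : ∃ n, Nat.card A = p ^ n := by
  have h : IsPGroup p (Multiplicative A) := fun a =>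
    ⟨1, by rw [pow_one]; exact Multiplicative.toAdd.injective (by simpa using hA a.toAdd)⟩
  obtain ⟨n, hn⟩ := IsPGroup.iff_card.mp h
  exact ⟨n, hn⟩

theorem fix_card (p : ℕ) [hp : Fact p.Prime] (A : Type*) [AddCommGroup A] [Finite A]
    (hA : ∀ a : A, p • a = 0) :
    ∃ n, ∀ L : AddSubgroup A, ∃ k ≤ n, Nat.card L = p ^ k ∧ ∃ j, L.index = p ^ j := by
  obtain ⟨n, hn⟩ := card_p_group p A hA
  refine ⟨n, fun L => ?_⟩
  obtain ⟨k, hk, hk'⟩ := (Nat.dvd_prime_pow hp.out).mp (hn ▸ L.card_addSubgroup_dvd_card)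
  obtain ⟨j, -, hj⟩ := (Nat.dvd_prime_pow hp.out).mp (hn ▸ L.index_dvd_card)
  exact ⟨k, hk, hk', j, hj⟩

end Cfsg.Agent.Block.KGVReal
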