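import Cfsg.Agent.Lib.Block.KGVReal.Eta
import Cfsg.Agent.Lib.Block.CentralizerBound

/-!
`k(VG) ≤ |V|` from a vector whose stabiliser carries the data of the criterion.
-/

set_option autoImplicit false

namespace Cfsg.Agent.Block.KGVReal

open scoped ComplexConjugate
open Cfsg Cfsg.Agent.Char Cfsg.Agent.Block.KGV
open Cfsg.Agent.Char.Brauer (AlgComb)

universe u

variable {X : Type u} [Group X]

theorem classNumber_le [Finite X] {p : ℕ} [hp : Fact p.Prime] {M : Ideal AlgInt}
    (hM : IsPModular p M) (V : Subgroup X) [V.Normal] (hVexp : ∀ v ∈ V, v ^ p = 1)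
    (hab : ∀ a ∈ V, ∀ b ∈ V, a * b = b * a) (hidx : ¬ p ∣ V.index)
    (G : Subgroup X) (hGV : Subgroup.IsComplement' V G) {v : X} (hv : v ∈ V) {H : Subgroup X}
    (hH : H = G ⊓ Subgroup.centralizer ({v} : Set X)) [Fintype H] {N : ℕ} (hN0 : 0 < N)
    (hXN : Nat.card X ∣ N) {η : H → ℂ} {cap : H → ℕ} (hgood : Good p N M η cap)
    (hcap : ∀ y : H, cap y * Nat.card ↥(V ⊓ Subgroup.centralizer ({(y : X)} : Set X)) ≤ Nat.card V)
    (hmove : ∀ y : H, y ≠ 1 → cap y ≠ 1) : Nat.card (ConjClasses X) ≤ Nat.card V := by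
  classical
  cases nonempty_fintype X
  have hvH : ∀ y ∈ H, v * y = y * v := fun y hy => by
    rw [hH] at hy
    exact (Subgroup.mem_centralizer_singleton_iff.mp hy.2).symm
  have hHG : H ≤ G := hH ▸ inf_le_left
  have hh0 : (Nat.card H : ℂ) ≠ 0 := Nat.cast_ne_zero.mpr Nat.card_pos.ne'
  set m : IrrCharacter X → ℂ := fun χ =>
    (Nat.card H : ℂ)⁻¹ * ∑ y : H, (χ : X → ℂ) (v * y) * η y with hm
  -- the group `⟨v⟩ H`
  set L := Subgroup.centralizer ({v} : Set X) with hL
  have hvL : v ∈ L := Subgroup.mem_centralizer_singleton_iff.mpr rfl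
  have hvc : (⟨v, hvL⟩ : L) ∈ Subgroup.center L := Subgroup.mem_center_iff.mpr fun g =>
    Subtype.ext (Subgroup.mem_centralizer_singleton_iff.mp g.2)
  haveI := Fintype.ofFinite L
  have hHL : H ≤ L := hH ▸ inf_le_right
  let ι : H →* L := Subgroup.inclusion hHL
  have hint : ∀ χ : IrrCharacter X, IsIntegral ℤ (m χ) := by
    intro χ
    obtain ⟨a, -, hdec⟩ := IsChar.exists_decomp_inner (IsChar.res (IsIrr.isCharacter χ.2) L)
    choose s hs1 hs using fun φ : IrrCharacter L => IsIrr.scalar_of_center φ.2 hvc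
    have hsint : ∀ φ : IrrCharacter L, IsIntegral ℤ (s φ) := fun φ => by
      refine isIntegral_of_pow_eq_one (orderOf_pos (⟨v, hvL⟩ : L)) ?_
      have h1 := scalar_pow (hs φ) (orderOf (⟨v, hvL⟩ : L)) 1
      rw [pow_orderOf_eq_one, mul_one] at h1
      exact mul_right_cancel₀ (IsIrr.one_ne_zero φ.2) (h1.symm.trans (one_mul _).symm)
    have hcomb : AlgComb (fun y : H => (χ : X → ℂ) (v * y) * η y) := by
      have e : (fun y : H => (χ : X → ℂ) (v * y) * η y) =
          ∑ φ : IrrCharacter L, ((a φ : ℂ) * s φ) • (η * fun y : H => (φ : L → ℂ) (ι y)) := by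
        funext y
        have h1 := congrFun hdec (⟨v, hvL⟩ * ι y)
        rw [show (χ : X → ℂ) (v * y) = _ from h1]
        simp only [Finset.sum_apply, Pi.smul_apply, smul_eq_mul, hs, Pi.mul_apply, Finset.sum_mul]
        exact Finset.sum_congr rfl fun φ _ => by ring
      rw [e]
      exact AlgComb.sum fun φ _ => (hgood.comb.mul_char (IsChar.comp ι (IsIrr.isCharacter φ.2))).smul
        ((show IsIntegral ℤ ((a φ : ℕ) : ℂ) by
          simpa using isIntegral_algebraMap (R := ℤ) (A := ℂ) (x := ((a φ : ℕ) : ℤ))).mul (hsint φ))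
    have h := comb_inner hcomb ⟨_, isIrr_one⟩
    simpa [classInner, hm] using h
  have hspan : ∀ χ : IrrCharacter X, m χ ∈ cycSpan N := by
    intro χ
    refine mul_mem (inv_mem (natCast_mem _ _)) (sum_mem fun y _ => mul_mem ?_ (hgood.span y))
    obtain ⟨n, ρ, -, hρ⟩ := χ.2
    rw [← hρ]
    obtain ⟨B, c, -, hc, hk⟩ := exists_rep_eigenbasis ρ (v * (y : X))
    have h1 := hk 1
    simp only [pow_one] at h1
    rw [h1]
    refine sum_mem fun i _ => root_mem_cycSpan hN0 ?_
    obtain ⟨j, hj⟩ := (orderOf_dvd_natCard (v * (y : X))).trans hXN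
    rw [hj, pow_mul, hc, one_pow]
  have hne : ∀ χ : IrrCharacter X, m χ ≠ 0 := by
    intro χ h0
    have hsum : ∑ y : H, (χ : X → ℂ) (v * y) * η y = 0 :=
      (mul_eq_zero.mp (h0 : (Nat.card H : ℂ)⁻¹ * ∑ y : H, (χ : X → ℂ) (v * y) * η y = 0)).resolve_left
        (inv_ne_zero hh0)
    let T : H → AlgInt := fun y => ⟨(χ : X → ℂ) (v * y) * η y,
      IsIntegral.mul (IsChar.isIntegral (IsIrr.isCharacter χ.2) _) (comb_value hgood.comb y)⟩
    have hTM : ∀ y : H, y ≠ 1 → T y ∈ M := by
      intro y hy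
      obtain ⟨b, hb, hbe⟩ := hgood.mem y (hmove y hy)
      have : T y = (⟨_, IsChar.isIntegral (IsIrr.isCharacter χ.2) (v * (y : X))⟩ : AlgInt) * b :=
        Subtype.ext (by
          show (χ : X → ℂ) (v * y) * η y = (χ : X → ℂ) (v * (y : X)) * (b : ℂ)
          rw [hbe])
      rw [this]
      exact M.mul_mem_left _ hb
    have hT0 : ∑ y : H, T y = 0 := by
      refine Subtype.ext ?_
      rw [AddSubmonoidClass.coe_finsetSum]
      exact hsum
    have h1 : T 1 ∈ M := by
      rw [← Finset.add_sum_erase Finset.univ T (Finset.mem_univ 1)] at hT0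
      rw [eq_neg_of_add_eq_zero_left hT0]
      exact M.neg_mem (M.sum_mem fun y hy => hTM y (Finset.mem_erase.mp hy).1)
    have hT1 : T 1 = (⟨(χ : X → ℂ) v, IsChar.isIntegral (IsIrr.isCharacter χ.2) v⟩ : AlgInt) := by
      refine Subtype.ext ?_
      show (χ : X → ℂ) (v * ((1 : H) : X)) * η 1 = (χ : X → ℂ) v
      simp [hgood.one]
    haveI := Fintype.ofFinite V
    obtain ⟨θ, hθ⟩ := IsChar.exists_constituent' (IsChar.res (IsIrr.isCharacter χ.2) V) (by
      show (χ : X → ℂ) ((1 : V) : X) ≠ 0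
      rw [Subgroup.coe_one]; exact IsIrr.one_ne_zero χ.2)
    obtain ⟨e, he, hed⟩ := Ext.ratio_dvd_index' (G := X) (N := V) χ.2 θ.2 hθ
    rw [IsIrr.one_of_comm (fun a b => Subtype.ext (hab a a.2 b b.2)) θ.2, mul_one] at he
    obtain ⟨j, -, hj⟩ := (Nat.dvd_prime_pow hp.out).mp (orderOf_dvd_of_pow_eq_one
      (show v ^ p ^ 1 = 1 by rw [pow_one]; exact hVexp v hv))
    have hmem := IsChar.sub_degree_mem (IsIrr.isCharacter χ.2) hM (g := v) ⟨j, hj⟩
    rw [← hT1, sub_eq_add_neg, M.add_mem_iff_right h1, neg_mem_iff] at hmem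
    rw [show (⟨(χ : X → ℂ) 1, IsChar.isIntegral (IsIrr.isCharacter χ.2) 1⟩ : AlgInt) =
      (e : AlgInt) from Subtype.ext (by simpa using he), natCast_mem_iff hM] at hmem
    exact hidx (hmem.trans hed)
  have huniq : ∀ a ∈ V, ∀ g ∈ G, ∀ a' ∈ V, ∀ g' ∈ G, a * g = a' * g' → a = a' ∧ g = g' := by
    intro a ha g hg a' ha' g' hg' h
    have h2 := hGV.1 (a₁ := (⟨a, ha⟩, ⟨g, hg⟩)) (a₂ := (⟨a', ha'⟩, ⟨g', hg'⟩)) h
    exact ⟨congrArg Subtype.val (Prod.ext_iff.mp h2).1, congrArg Subtype.val (Prod.ext_iff.mp h2).2⟩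
  have hvord : ∀ y : H, (orderOf v).Coprime (orderOf (y : X)) := by
    intro y
    refine Nat.Coprime.coprime_dvd_left (orderOf_dvd_of_pow_eq_one (hVexp v hv))
      ((hp.out.coprime_iff_not_dvd).mpr fun h => hidx ?_)
    have h2 : orderOf (y : X) ∣ Nat.card G := by
      rw [show (y : X) = ((⟨y, hHG y.2⟩ : G) : X) from rfl, Subgroup.orderOf_coe]
      exact orderOf_dvd_natCard _
    rw [← hGV.symm.index_eq_card] at h2
    exact h.trans h2
  have hcomm : ∀ y : H, Commute v (y : X) := fun y => hvH y y.2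
  have hgv : ∀ (y z : H) (g : X), g * (v * y) * g⁻¹ = v * z → g * v * g⁻¹ = v := by
    intro y z g hg
    obtain ⟨k, hk1, hk2⟩ := Nat.chineseRemainder (Nat.Coprime.mul_right (hvord y) (hvord z)) 1 0
    have hy0 : k ≡ 0 [MOD orderOf (y : X)] := Nat.ModEq.of_mul_right _ hk2
    have hz0 : k ≡ 0 [MOD orderOf (z : X)] := Nat.ModEq.of_mul_left _ hk2
    have e1 : (v * (y : X)) ^ k = v := by
      rw [(hcomm y).mul_pow, pow_eq_pow_iff_modEq.mpr hk1, pow_one,
        pow_eq_pow_iff_modEq.mpr hy0, pow_zero, mul_one]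
    have e2 : (v * (z : X)) ^ k = v := by
      rw [(hcomm z).mul_pow, pow_eq_pow_iff_modEq.mpr hk1, pow_one,
        pow_eq_pow_iff_modEq.mpr hz0, pow_zero, mul_one]
    calc g * v * g⁻¹ = g * (v * (y : X)) ^ k * g⁻¹ := by rw [e1]
      _ = (g * (v * (y : X)) * g⁻¹) ^ k := conj_pow.symm
      _ = v := by rw [hg, e2]
  have hdecomp : ∀ (y z : H) (g : X), g * (v * y) * g⁻¹ = v * z →
      ∃ a ∈ V, ∃ h : H, g = a * h ∧ (h : X) * y * (h : X)⁻¹ = z ∧ a * (z : X) = (z : X) * a := by
    intro y z g hg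
    have hgv' := hgv y z g hg
    obtain ⟨⟨⟨a, ha⟩, ⟨h, hh⟩⟩, hah⟩ := hGV.2 g
    obtain rfl : g = a * h := hah.symm
    have h1 : h * v * h⁻¹ = v := by
      have hva : a⁻¹ * v * a = v := by rw [mul_assoc, hab v hv a ha, inv_mul_cancel_left]
      calc h * v * h⁻¹ = a⁻¹ * (a * h * v * (a * h)⁻¹) * a := by group
        _ = v := by rw [hgv', hva]
    have hhH : h ∈ H := by
      rw [hH]
      exact ⟨hh, Subgroup.mem_centralizer_singleton_iff.mpr (mul_inv_eq_iff_eq_mul.mp h1)⟩
    have h2 : a * (h * (y : X) * h⁻¹) * a⁻¹ = (z : X) := by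
      refine mul_left_cancel (a := v) ?_
      calc v * (a * (h * (y : X) * h⁻¹) * a⁻¹)
          = (a * h * v * (a * h)⁻¹) * (a * h * (y : X) * (a * h)⁻¹) := by rw [hgv']; group
        _ = a * h * (v * (y : X)) * (a * h)⁻¹ := by group
        _ = _ := hg
    set w := h * (y : X) * h⁻¹ with hw
    have hwG : w ∈ G := G.mul_mem (G.mul_mem hh (hHG y.2)) (G.inv_mem hh)
    have h3 : a * (w * a⁻¹ * w⁻¹) * w = 1 * (z : X) := by
      rw [one_mul, ← h2]; group
    obtain ⟨h4, h5⟩ := huniq _ (V.mul_mem ha (‹V.Normal›.conj_mem _ (V.inv_mem ha) w)) _ hwG 1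
      V.one_mem _ (hHG z.2) h3
    refine ⟨a, ha, ⟨h, hhH⟩, rfl, h5, ?_⟩
    rw [← h5]
    calc a * w = a * (w * a⁻¹ * w⁻¹) * (w * a) := by group
      _ = w * a := by rw [h4, one_mul]
  have hconj : ∀ y z : H, IsConj (v * (y : X)) (v * (z : X)) ↔ IsConj y z := by
    intro y z
    constructor
    · intro h
      obtain ⟨g, hg⟩ := isConj_iff.mp h
      obtain ⟨a, -, h, -, h2, -⟩ := hdecomp y z g hg
      exact isConj_iff.mpr ⟨h, Subtype.ext h2⟩
    · intro h
      obtain ⟨g, hg⟩ := isConj_iff.mp h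
      refine isConj_iff.mpr ⟨g, ?_⟩
      rw [show (g : X) * (v * y) * (g : X)⁻¹ = ((g : X) * v) * y * (g : X)⁻¹ by group,
        ← hvH g g.2, ← hg]
      simp only [Subgroup.coe_mul, InvMemClass.coe_inv]
      group
  have hcent : ∀ y : H, Nat.card (Subgroup.centralizer ({v * (y : X)} : Set X)) =
      Nat.card ↥(V ⊓ Subgroup.centralizer ({(y : X)} : Set X)) *
        Nat.card (Subgroup.centralizer ({y} : Set H)) := by
    intro y
    rw [← Nat.card_prod]
    refine (Nat.card_eq_of_bijective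
      (fun q : ↥(V ⊓ Subgroup.centralizer ({(y : X)} : Set X)) ×
          Subgroup.centralizer ({y} : Set H) =>
        (⟨(q.1 : X) * ((q.2 : H) : X), Subgroup.mem_centralizer_singleton_iff.mpr (by
          obtain ⟨⟨a, haV, hac⟩, ⟨h, hhy⟩⟩ := q
          show a * (h : X) * (v * y) = v * y * (a * h)
          have h1 : a * (y : X) = (y : X) * a := Subgroup.mem_centralizer_singleton_iff.mp hac
          have h2 : (h : X) * y = y * h :=
            congrArg (fun t : H => (t : X)) (Subgroup.mem_centralizer_singleton_iff.mp hhy)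
          calc a * (h : X) * (v * y) = a * ((h : X) * v) * y := by group
            _ = a * v * ((h : X) * y) := by rw [← hvH h h.2]; group
            _ = v * (a * y) * h := by rw [h2, hab a haV v hv]; group
            _ = _ := by rw [h1]; group)⟩ : Subgroup.centralizer ({v * (y : X)} : Set X)))
      ⟨fun q q' hq => ?_, fun g => ?_⟩).symm
    · have h' : (q.1 : X) * ((q.2 : H) : X) = q'.1 * ((q'.2 : H) : X) := congrArg Subtype.val hq
      have := huniq _ q.1.2.1 _ (hHG (q.2 : H).2) _ q'.1.2.1 _ (hHG (q'.2 : H).2) h'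
      exact Prod.ext (Subtype.ext this.1) (Subtype.ext (Subtype.ext this.2))
    · have hg : (g : X) * (v * y) * (g : X)⁻¹ = v * y := by
        rw [Subgroup.mem_centralizer_singleton_iff.mp g.2, mul_inv_cancel_right]
      obtain ⟨a, ha, h, hgah, hhy, hay⟩ := hdecomp y y g hg
      exact ⟨(⟨a, ha, Subgroup.mem_centralizer_singleton_iff.mpr hay⟩,
        ⟨h, Subgroup.mem_centralizer_singleton_iff.mpr (Subtype.ext (mul_inv_eq_iff_eq_mul.mp hhy))⟩),
        Subtype.ext hgah.symm⟩
  have hclass : ∀ y : H, Nat.card {z : H // IsConj y z} *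
      Nat.card (Subgroup.centralizer ({y} : Set H)) = Nat.card H := by
    intro y
    rw [card_conjClass, mul_comm, Subgroup.card_mul_index]
  have hcl := comb_classFun hgood.comb
  have hbnd : ∀ σ : ℂ ≃+* ℂ, ∑ χ : IrrCharacter X, Complex.normSq (σ (m χ)) ≤ (Nat.card V : ℝ) := by
    intro σ
    let π : IrrCharacter X → IrrCharacter X := fun χ => ⟨_, IsIrr.map_ringAut χ.2 σ⟩
    have hπ : Function.Bijective π := Finite.injective_iff_bijective.mp fun a b h =>
      Subtype.ext (funext fun g => σ.injective (congrFun (congrArg Subtype.val h) g))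
    set η' : H → ℂ := fun y => σ (η y) with hη'
    have hσm : ∀ χ, σ (m χ) =
        (Nat.card H : ℂ)⁻¹ * ∑ y : H, ((π χ : IrrCharacter X) : X → ℂ) (v * y) * η' y := fun χ => by
      simp [hm, hη', π, map_sum]
    simp only [hσm]
    rw [hπ.sum_comp (fun χ : IrrCharacter X =>
      Complex.normSq ((Nat.card H : ℂ)⁻¹ * ∑ y : H, (χ : X → ℂ) (v * y) * η' y))]
    have key : ((∑ χ : IrrCharacter X, Complex.normSq ((Nat.card H : ℂ)⁻¹ *
        ∑ y : H, (χ : X → ℂ) (v * y) * η' y) : ℝ) : ℂ) =
        ((((Nat.card H : ℝ)⁻¹) * ∑ y : H, Complex.normSq (η' y) *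
          (Nat.card ↥(V ⊓ Subgroup.centralizer ({(y : X)} : Set X)) : ℝ) : ℝ) : ℂ) := by
      rw [Complex.ofReal_sum, Complex.ofReal_mul, Complex.ofReal_inv, Complex.ofReal_natCast,
        Complex.ofReal_sum]
      simp only [Complex.ofReal_mul, Complex.ofReal_natCast, ← Complex.mul_conj]
      simp only [map_mul, map_inv₀, map_natCast, map_sum]
      calc ∑ χ : IrrCharacter X, ((Nat.card H : ℂ)⁻¹ * ∑ y : H, (χ : X → ℂ) (v * y) * η' y) *
            ((Nat.card H : ℂ)⁻¹ * ∑ z : H, conj ((χ : X → ℂ) (v * z)) * conj (η' z))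
          = (Nat.card H : ℂ)⁻¹ ^ 2 * ∑ y : H, ∑ z : H, η' y * conj (η' z) *
              ∑ χ : IrrCharacter X, (χ : X → ℂ) (v * y) * conj ((χ : X → ℂ) (v * z)) := by
            simp only [Finset.mul_sum, Finset.sum_mul]
            rw [Finset.sum_comm]
            conv_lhs => enter [2, y]; rw [Finset.sum_comm]
            conv_lhs => rw [Finset.sum_comm]
            exact Finset.sum_congr rfl fun y _ => Finset.sum_congr rfl fun z _ =>
              Finset.sum_congr rfl fun χ _ => by ring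
        _ = _ := by
            rw [Finset.mul_sum, Finset.mul_sum]
            refine Finset.sum_congr rfl fun y _ => ?_
            rw [Finset.sum_congr rfl (g := fun z : H => if IsConj y z then η' y * conj (η' y) *
              (Nat.card (Subgroup.centralizer ({v * (y : X)} : Set X)) : ℂ) else 0) fun z _ => ?_]
            · rw [← Finset.sum_filter, Finset.sum_const, nsmul_eq_mul, ← Fintype.card_subtype,
                ← Nat.card_eq_fintype_card, hcent y, Nat.cast_mul]
              have e := congrArg (fun n : ℕ => (n : ℂ)) (hclass y)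
              simp only [Nat.cast_mul] at e
              have e' : (Nat.card H : ℂ)⁻¹ ^ 2 * ((Nat.card {z : H // IsConj y z} : ℂ) *
                  (η' y * conj (η' y) *
                    ((Nat.card ↥(V ⊓ Subgroup.centralizer ({(y : X)} : Set X)) : ℂ) *
                      (Nat.card (Subgroup.centralizer ({y} : Set H)) : ℂ)))) =
                  (Nat.card H : ℂ)⁻¹ ^ 2 * ((Nat.card H : ℂ) * (η' y * conj (η' y) *
                    (Nat.card ↥(V ⊓ Subgroup.centralizer ({(y : X)} : Set X)) : ℂ))) := by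
                rw [← e]; ring
              rw [e']
              field_simp
            · rw [sum_irr_mul_conj]
              split_ifs with h1 h2 h2
              · obtain ⟨g, hg⟩ := isConj_iff.mp h2
                rw [show η' z = η' y by rw [hη', ← hg]; exact congrArg σ (hcl y g)]
                congr 2
                have e1 := (Subgroup.centralizer ({v * (y : X)} : Set X)).card_mul_index
                have e2 := (Subgroup.centralizer ({v * (z : X)} : Set X)).card_mul_index
                rw [← card_conjClass] at e1 e2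
                have e3 : Nat.card {x : X // IsConj (v * (y : X)) x} =
                    Nat.card {x : X // IsConj (v * (z : X)) x} :=
                  Nat.card_congr (Equiv.subtypeEquivRight fun x => ⟨h1.symm.trans, h1.trans⟩)
                rw [e3] at e1
                haveI : Nonempty {x : X // IsConj (v * (z : X)) x} := ⟨⟨_, IsConj.refl _⟩⟩
                exact Nat.eq_of_mul_eq_mul_right Nat.card_pos (e2.trans e1.symm)
              · exact absurd ((hconj y z).mp h1) h2
              · exact absurd ((hconj y z).mpr h2) h1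
              · rw [mul_zero]
    rw [Complex.ofReal_inj.mp key]
    calc (Nat.card H : ℝ)⁻¹ * ∑ y : H, Complex.normSq (η' y) *
          (Nat.card ↥(V ⊓ Subgroup.centralizer ({(y : X)} : Set X)) : ℝ)
        ≤ (Nat.card H : ℝ)⁻¹ * ∑ _y : H, (Nat.card V : ℝ) :=
          mul_le_mul_of_nonneg_left (Finset.sum_le_sum fun y _ =>
            (mul_le_mul_of_nonneg_right (hgood.bound y σ) (Nat.cast_nonneg _)).trans
              (by exact_mod_cast hcap y))
            (inv_nonneg.mpr (Nat.cast_nonneg _))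
      _ = _ := by
          rw [Finset.sum_const, Finset.card_univ, nsmul_eq_mul, ← Nat.card_eq_fintype_card,
            inv_mul_cancel_left₀ (Nat.cast_ne_zero.mpr Nat.card_pos.ne')]
  have h := card_le_of_conjugates hN0 m hspan hint hne hbnd
  rw [← Nat.card_eq_fintype_card, card_irrCharacter] at h
  exact_mod_cast h

end Cfsg.Agent.Block.KGVReal
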