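import Cfsg.Agent.Lib.Block.KGVReal.Alt

/-!
An invariant non-degenerate bilinear form gives the data of the criterion: the quotient by the
radical of the symmetrisation, and the alternating form on the isotropic part of the radical.
-/

namespace Cfsg.Agent.Block.KGVReal

open scoped ComplexConjugate
open Cfsg Cfsg.Agent.Char Cfsg.Agent.Block.KGV

universe u v

variable {H : Type u} [Group H] [Fintype H] {p : ℕ} [hp : Fact p.Prime]

/-- The action on a quotient by an invariant subgroup. -/
@[reducible] def quotAct {A : Type v} [AddCommGroup A] [DistribMulAction H A] (R : AddSubgroup A)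
    (hR : ∀ (y : H), ∀ r ∈ R, y • r ∈ R) : DistribMulAction H (A ⧸ R) where
  smul y := QuotientAddGroup.map R R (DistribSMul.toAddMonoidHom A y) fun r hr => hR y r hr
  one_smul q := by
    induction q using QuotientAddGroup.induction_on with
    | H a => exact congrArg QuotientAddGroup.mk (one_smul H a)
  mul_smul x y q := by
    induction q using QuotientAddGroup.induction_on with
    | H a => exact congrArg QuotientAddGroup.mk (mul_smul x y a)
  smul_zero y := map_zero _
  smul_add y := map_add _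

/-- The action on an invariant subgroup. -/
@[reducible] def subAct {A : Type v} [AddCommGroup A] [DistribMulAction H A] (L : AddSubgroup A)
    (hL : ∀ (y : H), ∀ a ∈ L, y • a ∈ L) : DistribMulAction H L where
  smul y a := ⟨y • (a : A), hL y a a.2⟩
  one_smul a := Subtype.ext (one_smul H (a : A))
  mul_smul x y a := Subtype.ext (mul_smul x y (a : A))
  smul_zero y := Subtype.ext (smul_zero y)
  smul_add y a a' := Subtype.ext (smul_add y (a : A) a')

/-- A form with radical: the data of the criterion for the quotient by the radical. -/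
theorem quot_piece {A : Type v} [AddCommGroup A] [DistribMulAction H A] [Finite A]
    (hpH : ¬ p ∣ Nat.card H) {M : Ideal AlgInt} (hM : IsPModular p M) {N : ℕ} (hN0 : 0 < N)
    (hpN : p ∣ N) (hHN : Nat.card H ∣ N) (hA : ∀ a : A, p • a = 0) (S : A →+ A →+ ZMod p)
    (hinv : ∀ (y : H) a b, S (y • a) (y • b) = S a b)
    (hkind : (p ≠ 2 ∧ ∀ a b, S a b = S b a) ∨ ∀ a, S a a = 0) :
    ∃ (η : H → ℂ) (cap : H → ℕ), Good p N M η cap ∧
      (∀ y, cap y ≤ (fixSub A y ⊔ S.ker).index) ∧
      ∀ y, cap y = 1 → ∀ a, y • a - a ∈ S.ker := by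
  classical
  have hflip : ∀ r ∈ S.ker, ∀ a, S a r = 0 := by
    intro r hr a
    have h1 : S r a = 0 := by rw [AddMonoidHom.mem_ker.mp hr]; rfl
    rcases hkind with ⟨-, hs⟩ | ha
    · rw [hs, h1]
    · have h := ha (a + r)
      simp only [map_add, AddMonoidHom.add_apply, ha, h1, zero_add, add_zero] at h
      exact h
  have hR : ∀ (y : H), ∀ r ∈ S.ker, y • r ∈ S.ker := fun y r hr => by
    refine AddMonoidHom.mem_ker.mpr (AddMonoidHom.ext fun a => ?_)
    have h := hinv y r (y⁻¹ • a)
    rw [smul_inv_smul] at h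
    rw [h, AddMonoidHom.mem_ker.mp hr]
    rfl
  letI := quotAct S.ker hR
  let g : A →+ (A ⧸ S.ker) →+ ZMod p :=
    { toFun := fun a => QuotientAddGroup.lift S.ker (S a) fun r hr =>
        AddMonoidHom.mem_ker.mpr (hflip r hr a)
      map_zero' := by
        refine AddMonoidHom.ext fun q => ?_
        induction q using QuotientAddGroup.induction_on with
        | H b => simp
      map_add' := fun a a' => by
        refine AddMonoidHom.ext fun q => ?_
        induction q using QuotientAddGroup.induction_on with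
        | H b => simp }
  let S' : (A ⧸ S.ker) →+ (A ⧸ S.ker) →+ ZMod p := QuotientAddGroup.lift S.ker g fun r hr => by
    refine AddMonoidHom.mem_ker.mpr (AddMonoidHom.ext fun q => ?_)
    induction q using QuotientAddGroup.induction_on with
    | H b => simp [g, AddMonoidHom.mem_ker.mp hr]
  have hS' : ∀ a b : A, S' a b = S a b := fun a b => rfl
  have hinv' : ∀ (y : H) (a b : A ⧸ S.ker), S' (y • a) (y • b) = S' a b := fun y a b => by
    induction a using QuotientAddGroup.induction_on with
    | H a =>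
      induction b using QuotientAddGroup.induction_on with
      | H b => exact hinv y a b
  have hnd' : ∀ a : A ⧸ S.ker, (∀ b, S' a b = 0) → a = 0 := fun a ha => by
    induction a using QuotientAddGroup.induction_on with
    | H a =>
      exact (QuotientAddGroup.eq_zero_iff a).mpr
        (AddMonoidHom.mem_ker.mpr (AddMonoidHom.ext fun b => ha b))
  have hA' : ∀ a : A ⧸ S.ker, p • a = 0 := fun a => by
    induction a using QuotientAddGroup.induction_on with
    | H a => rw [← QuotientAddGroup.mk_nsmul, hA]; rfl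
  obtain ⟨η, hη⟩ : ∃ η : H → ℂ, Good p N M η (fun y => (fixSub (A ⧸ S.ker) y).index) := by
    rcases hkind with ⟨hp2, hs⟩ | ha
    · exact sym_good hp2 hpH hM hpN hN0 hA' S' (fun a b => by
        induction a using QuotientAddGroup.induction_on with
        | H a =>
          induction b using QuotientAddGroup.induction_on with
          | H b => exact hs a b) hinv' hnd'
    · exact alt_good hpH hM hN0 hHN hA' S' (fun a => by
        induction a using QuotientAddGroup.induction_on with
        | H a => exact ha a) hinv' hnd'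
  refine ⟨η, _, hη, fun y => ?_, fun y hy a => ?_⟩
  · have hle : fixSub A y ⊔ S.ker ≤
        (fixSub (A ⧸ S.ker) y).comap (QuotientAddGroup.mk' S.ker) := by
      refine sup_le (fun a ha => ?_) fun r hr => ?_
      · exact congrArg QuotientAddGroup.mk (mem_fixSub.mp ha)
      · show y • (QuotientAddGroup.mk r : A ⧸ S.ker) = QuotientAddGroup.mk r
        rw [(QuotientAddGroup.eq_zero_iff r).mpr hr, smul_zero]
    rw [← AddSubgroup.index_comap_of_surjective (fixSub (A ⧸ S.ker) y)
      (QuotientAddGroup.mk'_surjective S.ker)]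
    exact Nat.le_of_dvd (Nat.pos_of_ne_zero AddSubgroup.index_ne_zero_of_finite)
      (AddSubgroup.index_dvd_of_le hle)
  · have h : (QuotientAddGroup.mk a : A ⧸ S.ker) ∈ fixSub (A ⧸ S.ker) y := by
      rw [AddSubgroup.index_eq_one.mp hy]
      exact AddSubgroup.mem_top _
    exact QuotientAddGroup.eq_iff_sub_mem.mp (mem_fixSub.mp h)

variable {A : Type v} [AddCommGroup A] [DistribMulAction H A] [Finite A]

omit [Finite A] in
theorem step_mem (hA : ∀ a : A, p • a = 0) (y : H) (hy : ¬ p ∣ orderOf y) (R : AddSubgroup A)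
    (hR : ∀ r ∈ R, y • r ∈ R) {a : A} (h : y • (y • a - a) - (y • a - a) ∈ R) :
    y • a - a ∈ R := by
  obtain ⟨d, hd⟩ : ∃ d, y • a - a = d := ⟨_, rfl⟩
  rw [hd] at h ⊢
  have hi : ∀ i : ℕ, y ^ i • a - a - i • d ∈ R := by
    intro i
    induction i with
    | zero => simp
    | succ i ih =>
      have h3 : ∀ k : ℕ, k • (y • d - d) ∈ R := fun k => nsmul_mem h k
      have e : y ^ (i + 1) • a - a - (i + 1) • d =
          y • (y ^ i • a - a - i • d) + i • (y • d - d) := by
        have hd' : y • a = d + a := sub_eq_iff_eq_add.mp hd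
        rw [pow_succ', mul_smul]
        generalize y ^ i • a = u
        rw [smul_sub, smul_sub, smul_comm y i d, succ_nsmul, nsmul_sub, hd']
        abel
      rw [e]
      exact add_mem (hR _ ih) (h3 i)
  have h1 := hi (orderOf y)
  rw [pow_orderOf_eq_one, one_smul, sub_self, zero_sub, neg_mem_iff] at h1
  obtain ⟨m, hm⟩ := nsmul_inj hA hy
  rw [← hm d]
  exact nsmul_mem h1 m

theorem eta_of_form (hpH : ¬ p ∣ Nat.card H) {M : Ideal AlgInt} (hM : IsPModular p M) {N : ℕ}
    (hN0 : 0 < N) (hpN : p ∣ N) (hHN : Nat.card H ∣ N) (hA : ∀ a : A, p • a = 0)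
    (B : A →+ A →+ ZMod p) (hinv : ∀ (y : H) a b, B (y • a) (y • b) = B a b)
    (hnd : ∀ a, (∀ b, B a b = 0) → a = 0) :
    ∃ (η : H → ℂ) (cap : H → ℕ), Good p N M η cap ∧ (∀ y, cap y ≤ (fixSub A y).index) ∧
      ∀ y, cap y = 1 → ∀ a : A, y • a = a := by
  classical
  set S : A →+ A →+ ZMod p := B + B.flip with hS
  have hSa : ∀ a b, S a b = B a b + B b a := fun a b => rfl
  have hSker : ∀ r, r ∈ S.ker ↔ ∀ a, B r a + B a r = 0 := fun r =>
    ⟨fun h a => by rw [← hSa, AddMonoidHom.mem_ker.mp h]; rfl,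
      fun h => AddMonoidHom.mem_ker.mpr (AddMonoidHom.ext h)⟩
  obtain ⟨η₁, cap₁, hη₁, hb₁, ht₁⟩ := quot_piece hpH hM hN0 hpN hHN hA S
    (fun y a b => by rw [hSa, hSa, hinv, hinv]) (by
    by_cases hp2 : p = 2
    · right
      intro a
      subst hp2
      rw [hSa, ← two_mul, show (2 : ZMod 2) = 0 from rfl, zero_mul]
    · exact Or.inl ⟨hp2, fun a b => by rw [hSa, hSa, add_comm]⟩)
  let W : AddSubgroup A :=
    { carrier := {a | a ∈ S.ker ∧ B a a = 0}
      zero_mem' := ⟨zero_mem _, by simp⟩
      add_mem' := fun {a b} ha hb => ⟨add_mem ha.1 hb.1, by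
        simp only [map_add, AddMonoidHom.add_apply, ha.2, hb.2, zero_add, add_zero]
        rw [add_comm]
        exact (hSker a).mp ha.1 b⟩
      neg_mem' := fun {a} ha => ⟨neg_mem ha.1, by simp [ha.2]⟩ }
  have hkinv : ∀ (y : H), ∀ a ∈ S.ker, y • a ∈ S.ker := fun y a ha => (hSker _).mpr fun b => by
    rw [← smul_inv_smul y b, hinv, hinv]
    exact (hSker a).mp ha _
  have hW : ∀ (y : H), ∀ a ∈ W, y • a ∈ W := fun y a ha =>
    ⟨hkinv y a ha.1, by rw [hinv]; exact ha.2⟩
  letI := subAct W hW
  let BW : W →+ W →+ ZMod p :=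
    AddMonoidHom.mk' (fun a => (B (a : A)).comp W.subtype) fun a b => by
      ext c; simp
  have hBW : ∀ a b : W, BW a b = B (a : A) b := fun a b => rfl
  obtain ⟨η₂, cap₂, hη₂, hb₂, ht₂⟩ := quot_piece hpH hM hN0 hpN hHN
    (fun a : W => Subtype.ext (hA a)) BW (fun y a b => hinv y a b) (Or.inr fun a => a.2.2)
  refine ⟨η₁ * η₂, cap₁ * cap₂, hη₁.mul hη₂, fun y => ?_, fun y hy => ?_⟩
  · have hCW : fixSub W y = (fixSub A y).addSubgroupOf W := by
      ext a
      exact ⟨fun h => congrArg Subtype.val h, fun h => Subtype.ext h⟩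
    have h2 : cap₂ y ≤ (fixSub A y).relIndex W := by
      refine (hb₂ y).trans (Nat.le_of_dvd (Nat.pos_of_ne_zero AddSubgroup.index_ne_zero_of_finite) ?_)
      refine AddSubgroup.index_dvd_of_le ?_
      rw [← hCW]
      exact le_sup_left
    have h3 : (fixSub A y).relIndex W ≤ (fixSub A y).relIndex (fixSub A y ⊔ S.ker) :=
      AddSubgroup.relIndex_le_of_le_right (fun a ha => AddSubgroup.mem_sup_right ha.1)
        AddSubgroup.index_ne_zero_of_finite
    calc cap₁ y * cap₂ y ≤ (fixSub A y ⊔ S.ker).index * (fixSub A y).relIndex (fixSub A y ⊔ S.ker) :=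
          Nat.mul_le_mul (hb₁ y) (h2.trans h3)
      _ = (fixSub A y).index := by
          rw [mul_comm]; exact AddSubgroup.relIndex_mul_index le_sup_left
  · intro a
    obtain ⟨h1, h2⟩ := mul_eq_one.mp (hy : cap₁ y * cap₂ y = 1)
    have hord : ¬ p ∣ orderOf y := fun h => hpH (h.trans (orderOf_dvd_natCard y))
    let R : AddSubgroup A := BW.ker.map W.subtype
    have hRmem : ∀ r, r ∈ R ↔ r ∈ W ∧ ∀ w ∈ W, B r w = 0 := fun r => by
      constructor
      · rintro ⟨r, hr, rfl⟩
        exact ⟨r.2, fun w hw => DFunLike.congr_fun (AddMonoidHom.mem_ker.mp hr) ⟨w, hw⟩⟩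
      · rintro ⟨hr, h⟩
        exact ⟨⟨r, hr⟩, AddMonoidHom.mem_ker.mpr (AddMonoidHom.ext fun w => h w w.2), rfl⟩
    have hRinv : ∀ r ∈ R, y • r ∈ R := fun r hr => (hRmem _).mpr
      ⟨hW y r ((hRmem r).mp hr).1, fun w hw => by
        rw [← smul_inv_smul y w, hinv]
        exact ((hRmem r).mp hr).2 _ (hW y⁻¹ w hw)⟩
    have hWR : ∀ w ∈ W, y • w - w ∈ R := fun w hw => ⟨_, ht₂ y h2 ⟨w, hw⟩, rfl⟩
    have hK : ∀ r ∈ S.ker, y • r - r ∈ R := fun r hr => by
      refine step_mem hA y hord R hRinv (hWR _ ⟨sub_mem (hkinv y r hr) hr, ?_⟩)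
      have e1 := (hSker r).mp hr (y • r)
      have e2 := (hSker r).mp hr r
      simp only [map_sub, AddMonoidHom.sub_apply, hinv]
      linear_combination e2 - e1
    have hall : ∀ a : A, y • a - a ∈ R := fun a => step_mem hA y hord R hRinv (hK _ (ht₁ y h1 a))
    have hfix : ∀ r ∈ R, y • r = r := fun r hr => by
      refine sub_eq_zero.mp (hnd _ fun w => ?_)
      have hk := hall w
      have e1 : B (y • r) (y • w - w) = 0 :=
        ((hRmem _).mp (hRinv r hr)).2 _ ((hRmem _).mp hk).1
      rw [map_sub] at e1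
      rw [map_sub, AddMonoidHom.sub_apply, ← hinv y r w]
      linear_combination -e1
    refine sub_eq_zero.mp ((AddSubgroup.mem_bot).mp (step_mem hA y hord ⊥ ?_ ?_))
    · intro r hr
      rw [AddSubgroup.mem_bot.mp hr, smul_zero]
      exact zero_mem _
    · rw [hfix _ (hall a), sub_self]
      exact zero_mem _

end Cfsg.Agent.Block.KGVReal
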