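import Cfsg.Agent.Lib.Block.KGVReal.Sym
import Cfsg.Agent.Lib.Char.Kernel
import Cfsg.Agent.Lib.Char.Integral

/-!
The two-step nilpotent group of a bilinear map with a group of automorphisms, and its irreducible
character that is non-trivial on the added centre.
-/

namespace Cfsg.Agent.Block.KGVReal

open scoped ComplexConjugate
open Cfsg Cfsg.Agent.Char

universe u v

variable {H : Type u} [Group H] {A : Type v} [AddCommGroup A] {p : ℕ}

/-- An invariant bilinear map whose antisymmetrisation is a given alternating one. -/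
theorem exists_half' [Fintype H] [Finite A] [hp : Fact p.Prime] [DistribMulAction H A]
    [Module (ZMod p) A] (hpH : ¬ p ∣ Nat.card H) (Ω : A →+ A →+ ZMod p)
    (halt : ∀ a, Ω a a = 0) (hinv : ∀ (y : H) a b, Ω (y • a) (y • b) = Ω a b) :
    ∃ b : A →+ A →+ ZMod p, (∀ (y : H) u w, b (y • u) (y • w) = b u w) ∧
      ∀ u w, b u w - b w u = Ω u w := by
  classical
  let e := Module.finBasis (ZMod p) A
  set r := Module.finrank (ZMod p) A with hr
  have hskew : ∀ a b, Ω b a = - Ω a b := fun a b => by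
    have h := halt (a + b)
    simp only [map_add, AddMonoidHom.add_apply, halt a, halt b] at h
    linear_combination h
  have hlin : ∀ (k : ZMod p) (a : A), ∀ w, Ω (k • a) w = k * Ω a w := fun k a w => by
    have e1 : k • a = k.val • a := by
      conv_lhs => rw [← ZMod.natCast_zmod_val k]
      exact Nat.cast_smul_eq_nsmul (ZMod p) k.val a
    rw [e1, map_nsmul, AddMonoidHom.nsmul_apply, nsmul_eq_mul, ZMod.natCast_zmod_val]
  let b₀ : A → A → ZMod p := fun u w =>
    ∑ i : Fin r, ∑ j : Fin r, if i < j then e.repr u i * e.repr w j * Ω (e i) (e j) else 0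
  have hb₀l : ∀ u u' w, b₀ (u + u') w = b₀ u w + b₀ u' w := fun u u' w => by
    simp only [b₀, map_add, Finsupp.add_apply, ← Finset.sum_add_distrib]
    refine Finset.sum_congr rfl fun i _ => Finset.sum_congr rfl fun j _ => ?_
    split_ifs <;> ring
  have hb₀r : ∀ u w w', b₀ u (w + w') = b₀ u w + b₀ u w' := fun u w w' => by
    simp only [b₀, map_add, Finsupp.add_apply, ← Finset.sum_add_distrib]
    refine Finset.sum_congr rfl fun i _ => Finset.sum_congr rfl fun j _ => ?_
    split_ifs <;> ring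
  have hexp : ∀ u w, Ω u w = ∑ i : Fin r, ∑ j : Fin r, e.repr u i * e.repr w j * Ω (e i) (e j) := by
    intro u w
    conv_lhs => rw [← e.sum_repr u, ← e.sum_repr w]
    rw [map_sum Ω, AddMonoidHom.finsetSum_apply]
    refine Finset.sum_congr rfl fun i _ => ?_
    rw [hlin, map_sum, Finset.mul_sum]
    refine Finset.sum_congr rfl fun j _ => ?_
    rw [← neg_neg (Ω (e i) (e.repr w j • e j)), ← hskew, hlin, hskew (e i) (e j)]
    ring
  have hdiff : ∀ u w, b₀ u w - b₀ w u = Ω u w := by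
    intro u w
    rw [hexp u w]
    simp only [b₀]
    rw [Finset.sum_comm (f := fun i j => if i < j then e.repr w i * e.repr u j * Ω (e i) (e j) else 0),
      ← Finset.sum_sub_distrib]
    refine Finset.sum_congr rfl fun i _ => ?_
    rw [← Finset.sum_sub_distrib]
    refine Finset.sum_congr rfl fun j _ => ?_
    rcases lt_trichotomy i j with h | rfl | h
    · rw [if_pos h, if_neg h.asymm, sub_zero]
    · simp [halt]
    · rw [if_neg h.asymm, if_pos h, hskew (e i) (e j)]
      ring
  set k : ZMod p := ((Nat.card H : ZMod p))⁻¹ with hk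
  have hH0 : ((Nat.card H : ℕ) : ZMod p) ≠ 0 := fun h =>
    hpH ((CharP.cast_eq_zero_iff (ZMod p) p _).mp h)
  refine ⟨AddMonoidHom.mk' (fun u => AddMonoidHom.mk' (fun w => k * ∑ y : H, b₀ (y • u) (y • w))
      fun w w' => by simp [smul_add, hb₀r, Finset.sum_add_distrib, mul_add]) fun u u' => ?_,
      fun z u w => ?_, fun u w => ?_⟩
  · ext w
    simp [smul_add, hb₀l, Finset.sum_add_distrib, mul_add]
  · simp only [AddMonoidHom.mk'_apply]
    congr 1
    exact Fintype.sum_equiv (Equiv.mulRight z) _ _ fun y => by simp [mul_smul]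
  · simp only [AddMonoidHom.mk'_apply]
    rw [← mul_sub, ← Finset.sum_sub_distrib, Finset.sum_congr rfl (g := fun _ => Ω u w)
      fun y _ => by rw [hdiff, hinv], Finset.sum_const, Finset.card_univ, nsmul_eq_mul,
      ← Nat.card_eq_fintype_card, hk, inv_mul_cancel_left₀ hH0]

theorem exists_half [Fintype H] [Finite A] [hp : Fact p.Prime] [DistribMulAction H A]
    (hpH : ¬ p ∣ Nat.card H) (hA : ∀ a : A, p • a = 0) (Ω : A →+ A →+ ZMod p)
    (halt : ∀ a, Ω a a = 0) (hinv : ∀ (y : H) a b, Ω (y • a) (y • b) = Ω a b) :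
    ∃ b : A →+ A →+ ZMod p, (∀ (y : H) u w, b (y • u) (y • w) = b u w) ∧
      ∀ u w, b u w - b w u = Ω u w :=
  @exists_half' H _ A _ p _ _ hp _ (AddCommGroup.zmodModule hA) hpH Ω halt hinv

/-- The group of a bilinear map. -/
@[ext]
structure Heis (b : A →+ A →+ ZMod p) : Type v where
  fst : A
  snd : ZMod p

namespace Heis

variable {b : A →+ A →+ ZMod p}

instance : Mul (Heis b) := ⟨fun x y => ⟨x.fst + y.fst, x.snd + y.snd + b x.fst y.fst⟩⟩
instance : One (Heis b) := ⟨⟨0, 0⟩⟩
instance : Inv (Heis b) := ⟨fun x => ⟨-x.fst, -x.snd + b x.fst x.fst⟩⟩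

@[simp] theorem mul_fst (x y : Heis b) : (x * y).fst = x.fst + y.fst := rfl
@[simp] theorem mul_snd (x y : Heis b) : (x * y).snd = x.snd + y.snd + b x.fst y.fst := rfl
@[simp] theorem one_fst : (1 : Heis b).fst = 0 := rfl
@[simp] theorem one_snd : (1 : Heis b).snd = 0 := rfl
@[simp] theorem inv_fst (x : Heis b) : x⁻¹.fst = -x.fst := rfl
@[simp] theorem inv_snd (x : Heis b) : x⁻¹.snd = -x.snd + b x.fst x.fst := rfl

instance : Group (Heis b) where
  mul_assoc x y z := by
    ext <;> simp only [mul_fst, mul_snd, map_add, AddMonoidHom.add_apply] <;> abel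
  one_mul x := by ext <;> simp
  mul_one x := by ext <;> simp
  inv_mul_cancel x := by ext <;> simp

/-- The underlying pair. -/
def equivProd (b : A →+ A →+ ZMod p) : Heis b ≃ A × ZMod p where
  toFun x := (x.fst, x.snd)
  invFun x := ⟨x.1, x.2⟩
  left_inv _ := rfl
  right_inv _ := rfl

instance [Finite A] [NeZero p] : Finite (Heis b) := Finite.of_equiv _ (equivProd b).symm

theorem card_eq [Finite A] [NeZero p] : Nat.card (Heis b) = Nat.card A * p := by
  rw [Nat.card_congr (equivProd b), Nat.card_prod, Nat.card_zmod]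

/-- The central element. -/
def zel (b : A →+ A →+ ZMod p) : Heis b := ⟨0, 1⟩

theorem zel_pow (k : ℕ) : zel b ^ k = ⟨0, k⟩ := by
  induction k with
  | zero => ext <;> simp
  | succ k ih => rw [pow_succ, ih]; ext <;> simp [zel]

theorem zel_pow_val [NeZero p] (s : ZMod p) : zel b ^ s.val = ⟨0, s⟩ := by
  rw [zel_pow, ZMod.natCast_zmod_val]

theorem mk_eq [NeZero p] (a : A) (s : ZMod p) :
    (⟨a, s⟩ : Heis b) = zel b ^ s.val * ⟨a, 0⟩ := by
  rw [zel_pow_val]; ext <;> simp

theorem zel_mem_center : zel b ∈ Subgroup.center (Heis b) :=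
  Subgroup.mem_center_iff.mpr fun x => by ext <;> simp [zel, add_comm]

theorem conj_eq (x e : Heis b) :
    x * e * x⁻¹ = ⟨e.fst, e.snd + (b x.fst e.fst - b e.fst x.fst)⟩ := by
  ext
  · simp
  · simp only [mul_snd, mul_fst, inv_fst, inv_snd, map_add, map_neg, AddMonoidHom.add_apply]
    abel

variable [DistribMulAction H A]

/-- An invariant bilinear map gives a group of automorphisms. -/
def act (hb : ∀ (y : H) u w, b (y • u) (y • w) = b u w) : H →* MulAut (Heis b) where
  toFun y :=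
    { toFun := fun x => ⟨y • x.fst, x.snd⟩
      invFun := fun x => ⟨y⁻¹ • x.fst, x.snd⟩
      left_inv := fun x => by ext <;> simp
      right_inv := fun x => by ext <;> simp
      map_mul' := fun x z => by ext <;> simp [smul_add, hb] }
  map_one' := by ext x <;> simp
  map_mul' y z := by ext x <;> simp [mul_smul]

@[simp] theorem act_fst (hb : ∀ (y : H) u w, b (y • u) (y • w) = b u w) (y : H) (x : Heis b) :
    (act hb y x).fst = y • x.fst := rfl
@[simp] theorem act_snd (hb : ∀ (y : H) u w, b (y • u) (y • w) = b u w) (y : H) (x : Heis b) :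
    (act hb y x).snd = x.snd := rfl

end Heis

/-- A conjugation moving by a central element acting by a scalar different from one kills the
value. -/
theorem vanish_of_conj {Y : Type*} [Group Y] {χ : Y → ℂ} (hχ : IsClassFunction Y χ) {x g z : Y}
    {c : ℂ} (hc : c ≠ 1) (hz : χ (z * g) = c * χ g) (h : x * g * x⁻¹ = z * g) : χ g = 0 := by
  have h1 := hχ g x
  rw [h, hz] at h1
  exact (mul_eq_zero.mp (show (c - 1) * χ g = 0 by linear_combination h1)).resolve_left
    (sub_ne_zero.mpr hc)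

theorem scalar_pow {Y : Type*} [Group Y] {χ : Y → ℂ} {z : Y} {c : ℂ}
    (h : ∀ g, χ (z * g) = c * χ g) (k : ℕ) (g : Y) : χ (z ^ k * g) = c ^ k * χ g := by
  induction k generalizing g with
  | zero => simp
  | succ k ih => rw [pow_succ, mul_assoc, ih, h, pow_succ, mul_assoc]

theorem pow_eq_one_of_lt {p : ℕ} [hp : Fact p.Prime] {c : ℂ} (hc : c ^ p = 1) (hc1 : c ≠ 1) {k : ℕ}
    (hk : (k : ZMod p) ≠ 0) : c ^ k ≠ 1 := by
  intro h
  have h1 : orderOf c = p := orderOf_eq_prime hc hc1
  exact hk ((CharP.cast_eq_zero_iff (ZMod p) p k).mpr (h1 ▸ orderOf_dvd_of_pow_eq_one h))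

/-- The character non-trivial on the added centre. -/
theorem heis_irr [Finite A] [hp : Fact p.Prime] {b : A →+ A →+ ZMod p}
    (hnd : ∀ a, (∀ w, b w a - b a w = 0) → a = 0) :
    ∃ (ξ : Heis b → ℂ) (c : ℂ) (d : ℕ), IsIrrCharacter (Heis b) ξ ∧ c ^ p = 1 ∧ c ≠ 1 ∧
      ξ 1 = d ∧ d * d = Nat.card A ∧ (∀ a s, a ≠ 0 → ξ ⟨a, s⟩ = 0) ∧
      (∀ s, ξ ⟨0, s⟩ = c ^ s.val * d) := by
  classical
  haveI := Fintype.ofFinite A
  haveI := Fintype.ofFinite (Heis b)
  have hz1 : Heis.zel b ≠ 1 := fun h => one_ne_zero (congrArg Heis.snd h)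
  obtain ⟨φ, hφ⟩ : ∃ φ : IrrCharacter (Heis b),
      (φ : Heis b → ℂ) (Heis.zel b) ≠ (φ : Heis b → ℂ) 1 := by
    by_contra hno
    push Not at hno
    exact hz1 (isConj_one_left.mp ((isConj_iff_irr _ _).mpr hno))
  obtain ⟨c, -, hc⟩ := IsIrr.scalar_of_center φ.2 Heis.zel_mem_center
  obtain ⟨d, hd0, hd⟩ := IsIrr.one_eq_pos φ.2
  have hcp : c ^ p = 1 := by
    have h1 := scalar_pow hc p 1
    rw [Heis.zel_pow, ZMod.natCast_self, mul_one, hd] at h1
    rw [show (⟨0, 0⟩ : Heis b) = 1 from rfl, hd] at h1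
    exact mul_right_cancel₀ (Nat.cast_ne_zero.mpr hd0.ne') (h1.symm.trans (one_mul _).symm)
  have hc1 : c ≠ 1 := fun h => hφ (by rw [← mul_one (Heis.zel b), hc, h, one_mul])
  have hoff : ∀ a s, a ≠ 0 → (φ : Heis b → ℂ) ⟨a, s⟩ = 0 := by
    intro a s ha
    obtain ⟨w, hw⟩ : ∃ w, b w a - b a w ≠ 0 := by
      by_contra hno
      push Not at hno
      exact ha (hnd a hno)
    set t := b w a - b a w
    refine vanish_of_conj (IsIrr.classFun φ.2) (x := ⟨w, 0⟩) (z := Heis.zel b ^ t.val)
      (c := c ^ t.val) (pow_eq_one_of_lt hcp hc1 (by rw [ZMod.natCast_zmod_val]; exact hw))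
      (scalar_pow hc _ _) ?_
    rw [Heis.conj_eq, Heis.zel_pow_val]
    ext
    · simp
    · simp [t, add_comm]
  have hon : ∀ s, (φ : Heis b → ℂ) ⟨0, s⟩ = c ^ s.val * d := fun s => by
    rw [← Heis.zel_pow_val, ← mul_one (Heis.zel b ^ s.val), scalar_pow hc, hd]
  refine ⟨φ, c, d, φ.2, hcp, hc1, hd, ?_, hoff, hon⟩
  have h1 := classInner_self_irr φ.2
  rw [classInner, inv_mul_eq_iff_eq_mul₀ (Nat.cast_ne_zero.mpr Nat.card_pos.ne'), mul_one,
    Heis.card_eq] at h1
  rw [← Fintype.sum_equiv (Heis.equivProd b).symm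
    (fun x : A × ZMod p => (φ : Heis b → ℂ) ⟨x.1, x.2⟩ * conj ((φ : Heis b → ℂ) ⟨x.1, x.2⟩)) _
    fun x => rfl,
    Fintype.sum_prod_type, Finset.sum_eq_single 0 (fun a _ ha => Finset.sum_eq_zero fun s _ => by
      rw [hoff a s ha, zero_mul]) (fun h => absurd (Finset.mem_univ _) h)] at h1
  simp only [hon, Complex.mul_conj, Complex.normSq_eq_norm_sq, norm_mul, norm_pow,
    Complex.norm_eq_one_of_pow_eq_one hcp hp.out.ne_zero, one_pow, one_mul, Complex.norm_natCast,
    Finset.sum_const, Finset.card_univ, ZMod.card, nsmul_eq_mul] at h1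
  have h2 : p * (d * d) = Nat.card A * p := by
    have : ((p * (d * d) : ℕ) : ℂ) = ((Nat.card A * p : ℕ) : ℂ) := by
      rw [← h1]
      push_cast
      ring
    exact_mod_cast this
  exact Nat.eq_of_mul_eq_mul_left hp.out.pos (h2.trans (mul_comm _ _))

end Cfsg.Agent.Block.KGVReal
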