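import Cfsg.Agent.Lib.Block.KGVReal.Criterion
import Cfsg.Agent.Lib.Grp.Basic

/-!
The real-vector criterion.
-/

set_option autoImplicit false

namespace Cfsg.Agent.Block.KGVReal

open Cfsg Cfsg.Agent.Char
open scoped IsMulCommutative

universe u

variable {X : Type u} [Group X]

/-- Conjugation on an invariant subgroup, written additively. -/
@[reducible] def conjAct' (H U : Subgroup X) [IsMulCommutative U]
    (hU : ∀ h ∈ H, ∀ u ∈ U, h * u * h⁻¹ ∈ U) : DistribMulAction H (Additive U) where
  smul h u := Additive.ofMul ⟨(h : X) * ((Additive.toMul u : U) : X) * (h : X)⁻¹,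
    hU h h.2 _ (Additive.toMul u : U).2⟩
  one_smul u := Additive.toMul.injective (Subtype.ext (by
    show (1 : X) * _ * (1 : X)⁻¹ = _
    simp))
  mul_smul a b u := Additive.toMul.injective (Subtype.ext (by
    show ((a : X) * b) * _ * ((a : X) * b)⁻¹ = (a : X) * ((b : X) * _ * (b : X)⁻¹) * (a : X)⁻¹
    group))
  smul_zero h := Additive.toMul.injective (Subtype.ext (by
    show (h : X) * 1 * (h : X)⁻¹ = 1
    simp))
  smul_add h a b := Additive.toMul.injective (Subtype.ext (by
    show (h : X) * (((Additive.toMul a : U) : X) * ((Additive.toMul b : U) : X)) * (h : X)⁻¹ =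
      ((h : X) * ((Additive.toMul a : U) : X) * (h : X)⁻¹) *
        ((h : X) * ((Additive.toMul b : U) : X) * (h : X)⁻¹)
    group))

theorem classNumber_le_real [Finite X] {p : ℕ} [hp : Fact p.Prime] (V : Subgroup X) [V.Normal]
    (hVexp : ∀ v ∈ V, v ^ p = 1) (hidx : ¬ p ∣ V.index)
    (hself : Subgroup.centralizer (V : Set X) = V) (G : Subgroup X)
    (hGV : Subgroup.IsComplement' V G) {v : X} (hv : v ∈ V) (U : Subgroup X) (hUV : U ≤ V)
    (hUinv : ∀ h ∈ G, h * v * h⁻¹ = v → ∀ u ∈ U, h * u * h⁻¹ ∈ U)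
    (hUfaith : ∀ h ∈ G, h * v * h⁻¹ = v → (∀ u ∈ U, h * u * h⁻¹ = u) → h = 1)
    (β : X → X → ZMod p)
    (hβl : ∀ u ∈ U, ∀ u' ∈ U, ∀ w ∈ U, β (u * u') w = β u w + β u' w)
    (hβr : ∀ u ∈ U, ∀ w ∈ U, ∀ w' ∈ U, β u (w * w') = β u w + β u w')
    (hβinv : ∀ h ∈ G, h * v * h⁻¹ = v → ∀ u ∈ U, ∀ w ∈ U,
      β (h * u * h⁻¹) (h * w * h⁻¹) = β u w)
    (hβnd : ∀ u ∈ U, (∀ w ∈ U, β u w = 0) → u = 1) :
    Nat.card (ConjClasses X) ≤ Nat.card V := by
  classical
  obtain ⟨M, hM⟩ := exists_isPModular p hp.out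
  have hab : ∀ a ∈ V, ∀ b ∈ V, a * b = b * a := fun a ha b hb => by
    have h : b ∈ Subgroup.centralizer (V : Set X) := hself.symm ▸ hb
    exact Subgroup.mem_centralizer_iff.mp h a ha
  set H := G ⊓ Subgroup.centralizer ({v} : Set X) with hH
  have hHv : ∀ h ∈ H, h * v * h⁻¹ = v := fun h hh => by
    rw [Subgroup.mem_centralizer_singleton_iff.mp (Subgroup.mem_inf.mp hh).2, mul_inv_cancel_right]
  have hHG : ∀ h ∈ H, h ∈ G := fun h hh => (Subgroup.mem_inf.mp hh).1
  haveI : IsMulCommutative U := ⟨⟨fun a b => Subtype.ext (hab a (hUV a.2) b (hUV b.2))⟩⟩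
  letI := conjAct' H U fun h hh => hUinv h (hHG h hh) (hHv h hh)
  haveI := Fintype.ofFinite H
  have hpH : ¬ p ∣ Nat.card H := fun h => hidx (by
    rw [hGV.symm.index_eq_card]
    exact h.trans (Subgroup.card_dvd_of_le inf_le_left))
  have hA : ∀ a : Additive U, p • a = 0 := fun a => Additive.toMul.injective (Subtype.ext (by
    show (((Additive.toMul a : U) ^ p : U) : X) = 1
    rw [Subgroup.coe_pow]
    exact hVexp _ (hUV (Additive.toMul a : U).2)))
  let B : Additive U →+ Additive U →+ ZMod p :=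
    AddMonoidHom.mk' (fun a => AddMonoidHom.mk'
      (fun b => β ((Additive.toMul a : U) : X) ((Additive.toMul b : U) : X))
      fun b b' => hβr _ (Additive.toMul a : U).2 _ (Additive.toMul b : U).2 _
        (Additive.toMul b' : U).2) fun a a' => AddMonoidHom.ext fun b =>
      hβl _ (Additive.toMul a : U).2 _ (Additive.toMul a' : U).2 _ (Additive.toMul b : U).2
  have hB : ∀ a b : Additive U,
      B a b = β ((Additive.toMul a : U) : X) ((Additive.toMul b : U) : X) := fun a b => rfl
  set N := Nat.card X * (p * Nat.card H) with hN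
  have hN0 : 0 < N := Nat.mul_pos Nat.card_pos (Nat.mul_pos hp.out.pos Nat.card_pos)
  obtain ⟨η, cap, hgood, hbound, htriv⟩ := eta_of_form (H := H) (A := Additive U) hpH hM hN0
    (Dvd.dvd.mul_left (dvd_mul_right p _) _) (Dvd.dvd.mul_left (dvd_mul_left _ p) _) hA B
    (fun y a b => hβinv y (hHG y y.2) (hHv y y.2) _ (Additive.toMul a : U).2 _
      (Additive.toMul b : U).2)
    (fun a ha => Additive.toMul.injective (Subtype.ext (hβnd _ (Additive.toMul a : U).2
      fun w hw => ha (Additive.ofMul ⟨w, hw⟩))))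
  refine classNumber_le hM V hVexp hab hidx G hGV hv hH hN0 (dvd_mul_right _ _) hgood
    (fun y => ?_) (fun y hy hcap => hy (Subtype.ext ?_))
  · set K := V ⊓ Subgroup.centralizer ({(y : X)} : Set X) with hK
    have hfix : Nat.card (fixSub (Additive U) y) = Nat.card ↥(U ⊓ K) := by
      refine Nat.card_congr
        { toFun := fun a => ⟨((Additive.toMul a.1 : U) : X), Subgroup.mem_inf.mpr
            ⟨(Additive.toMul a.1 : U).2, Subgroup.mem_inf.mpr ⟨hUV (Additive.toMul a.1 : U).2,
              Subgroup.mem_centralizer_singleton_iff.mpr ?_⟩⟩⟩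
          invFun := fun x => ⟨Additive.ofMul ⟨x.1, (Subgroup.mem_inf.mp x.2).1⟩,
            Additive.toMul.injective (Subtype.ext ?_)⟩
          left_inv := fun a => rfl
          right_inv := fun x => rfl }
      · exact (mul_inv_eq_iff_eq_mul.mp (congrArg (fun t : Additive U => ((Additive.toMul t : U) : X))
          (mem_fixSub.mp a.2) : (y : X) * ((Additive.toMul a.1 : U) : X) * (y : X)⁻¹ = _)).symm
      · show (y : X) * (x : X) * (y : X)⁻¹ = x
        rw [← Subgroup.mem_centralizer_singleton_iff.mp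
          (Subgroup.mem_inf.mp (Subgroup.mem_inf.mp x.2).2).2, mul_inv_cancel_right]
    have hidxeq : (fixSub (Additive U) y).index = K.relIndex U := by
      have h1 := (fixSub (Additive U) y).card_mul_index
      rw [hfix, show Nat.card (Additive U) = Nat.card U from Nat.card_congr Additive.toMul,
        ← Grp.relIndex_mul_card_inf U K] at h1
      exact Nat.eq_of_mul_eq_mul_left Nat.card_pos h1
    calc cap y * Nat.card K ≤ K.relIndex V * Nat.card K :=
          Nat.mul_le_mul_right _ ((hbound y).trans (hidxeq.le.trans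
            (Subgroup.relIndex_le_of_le_right hUV Subgroup.index_ne_zero_of_finite)))
      _ = Nat.card V := by rw [mul_comm]; exact Grp.card_mul_relIndex inf_le_left
  · refine hUfaith y (hHG y y.2) (hHv y y.2) fun u hu => ?_
    exact congrArg (fun t : Additive U => ((Additive.toMul t : U) : X))
      (htriv y hcap (Additive.ofMul ⟨u, hu⟩))

end Cfsg.Agent.Block.KGVReal
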