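import Cfsg.Agent.Lib.Block.KGVReal.Comb
import Cfsg.Agent.Lib.Block.PermChar

/-!
A non-degenerate invariant symmetric form in odd characteristic: the Gauss sum over the part moved
by an element.
-/

namespace Cfsg.Agent.Block.KGVReal

open scoped ComplexConjugate
open Cfsg Cfsg.Agent.Char Cfsg.Agent.Block.KGV
open Cfsg.Agent.Char.Brauer (AlgComb)

universe u v

variable {H : Type u} [Group H] [Fintype H] {A : Type v} [AddCommGroup A] [DistribMulAction H A]

/-- The sum of translates under the powers of an element. -/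
noncomputable def orbSum (y : H) : A →+ A where
  toFun a := ∑ i ∈ Finset.range (orderOf y), y ^ i • a
  map_zero' := by simp
  map_add' a b := by simp [smul_add, Finset.sum_add_distrib]

theorem orbSum_apply (y : H) (a : A) :
    orbSum y a = ∑ i ∈ Finset.range (orderOf y), y ^ i • a := rfl

theorem orbSum_fixed (y : H) (a : A) : y • orbSum y a = orbSum y a := by
  have h1 := Finset.sum_range_succ' (fun i => y ^ i • a) (orderOf y)
  rw [Finset.sum_range_succ, pow_orderOf_eq_one, pow_zero, one_smul, add_left_inj] at h1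
  rw [orbSum_apply, Finset.smul_sum]
  conv_rhs => rw [h1]
  exact Finset.sum_congr rfl fun i _ => by rw [smul_smul, ← pow_succ']

theorem smul_pow_fixed {y : H} {a : A} (h : y • a = a) (i : ℕ) : y ^ i • a = a := by
  induction i with
  | zero => simp
  | succ i ih => rw [pow_succ, mul_smul, h, ih]

theorem orbSum_of_fixed {y : H} {a : A} (h : y • a = a) : orbSum y a = orderOf y • a := by
  rw [orbSum_apply, Finset.sum_congr rfl fun i _ => smul_pow_fixed h i, Finset.sum_const,
    Finset.card_range]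

theorem nsmul_inj {p : ℕ} [hp : Fact p.Prime] (hA : ∀ a : A, p • a = 0) {n : ℕ} (hn : ¬ p ∣ n) :
    ∃ m : ℕ, ∀ a : A, m • (n • a) = a := by
  obtain ⟨m, hm⟩ := Nat.exists_mul_mod_eq_one_of_coprime
    ((hp.out.coprime_iff_not_dvd).mpr hn).symm hp.out.one_lt
  refine ⟨m, fun a => ?_⟩
  rw [smul_smul, ← Nat.div_add_mod (m * n) p, add_nsmul, mul_comm p, mul_nsmul', hA, nsmul_zero,
    zero_add, mul_comm m n, hm.2, one_nsmul]

/-- A sum of a character of values of the quadratic function. -/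
noncomputable def gs [Finite A] {p : ℕ} (ψ : AddChar (ZMod p) ℂ) (B : A →+ A →+ ZMod p)
    (S : AddSubgroup A) : ℂ :=
  letI := Fintype.ofFinite S
  ∑ a : S, ψ (B a a)

variable [Finite A]

theorem gs_normSq {p : ℕ} [hp : Fact p.Prime] (hp2 : p ≠ 2) (B : A →+ A →+ ZMod p)
    (hsym : ∀ a b, B a b = B b a) (S : AddSubgroup A)
    (hnd : ∀ a ∈ S, (∀ b ∈ S, B a b = 0) → a = 0) {ψ : AddChar (ZMod p) ℂ} (hψ : ψ ≠ 1) :
    gs ψ B S * conj (gs ψ B S) = (Nat.card S : ℂ) := by
  classical
  letI := Fintype.ofFinite S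
  have h2 : (2 : ZMod p) ≠ 0 := by
    intro h
    have := (CharP.cast_eq_zero_iff (ZMod p) p 2).mp (by simpa using h)
    exact hp2 ((Nat.prime_dvd_prime_iff_eq hp.out Nat.prime_two).mp this)
  have hchi : ∀ t : S, t ≠ 0 → ∑ w : S, ψ (B (w : A) t + B (w : A) t) = 0 := by
    intro t ht
    let χt : AddChar S ℂ :=
      { toFun := fun w => ψ (B (w : A) t + B (w : A) t)
        map_zero_eq_one' := by simp
        map_add_eq_mul' := fun w w' => by
          rw [← AddChar.map_add_eq_mul]
          congr 1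
          simp only [AddSubgroup.coe_add, map_add, AddMonoidHom.add_apply]
          ring }
    refine AddChar.sum_eq_zero_of_ne_one (ψ := χt) fun h1 => ht ?_
    refine Subtype.ext (hnd t t.2 fun b hb => ?_)
    by_contra hne
    refine hψ ?_
    refine DFunLike.ext _ _ fun x => ?_
    set c : ZMod p := B b t + B b t with hc
    have hc0 : c ≠ 0 := by
      rw [hc, hsym b t, ← two_mul]
      exact mul_ne_zero h2 hne
    obtain ⟨k, hk⟩ : ∃ k : ℕ, x = k • c := ⟨(x * c⁻¹).val, by
      rw [nsmul_eq_mul, ZMod.natCast_zmod_val, inv_mul_cancel_right₀ hc0]⟩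
    have hbc : ψ c = 1 := DFunLike.congr_fun h1 ⟨b, hb⟩
    rw [hk, AddChar.map_nsmul_eq_pow, hbc, one_pow]
    rfl
  have hval : gs ψ B S = ∑ a : S, ψ (B (a : A) a) := rfl
  rw [hval, map_sum]
  simp only [← AddChar.map_neg_eq_conj]
  rw [Finset.sum_mul_sum, Finset.sum_comm]
  calc ∑ w : S, ∑ u : S, ψ (B (u : A) u) * ψ (-(B (w : A) w))
      = ∑ w : S, ∑ t : S, ψ (B (t : A) t) * ψ (B (w : A) t + B (w : A) t) := by
        refine Finset.sum_congr rfl fun w _ => ?_
        refine Fintype.sum_equiv (Equiv.subRight w) _ _ fun u => ?_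
        rw [Equiv.subRight_apply, ← AddChar.map_add_eq_mul, ← AddChar.map_add_eq_mul]
        congr 1
        simp only [AddSubgroup.coe_sub, map_sub, AddMonoidHom.sub_apply]
        rw [hsym (w : A) u]
        ring
    _ = ∑ t : S, ψ (B (t : A) t) * ∑ w : S, ψ (B (w : A) t + B (w : A) t) := by
        rw [Finset.sum_comm]
        simp only [Finset.mul_sum]
    _ = (Nat.card S : ℂ) := by
        rw [Finset.sum_eq_single 0 (fun t _ ht => by rw [hchi t ht, mul_zero])
          (fun h => absurd (Finset.mem_univ _) h)]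
        simp [Nat.card_eq_fintype_card]

theorem gs_split {p : ℕ} [hp : Fact p.Prime] (hA : ∀ a : A, p • a = 0) (B : A →+ A →+ ZMod p)
    (hsym : ∀ a b, B a b = B b a) (hinv : ∀ (y : H) a b, B (y • a) (y • b) = B a b) (y : H)
    (hy : ¬ p ∣ orderOf y) (ψ : AddChar (ZMod p) ℂ) :
    (∀ c ∈ fixSub A y, ∀ d ∈ (orbSum y : A →+ A).ker, B c d = 0) ∧
      (∀ a : A, ∃ c ∈ fixSub A y, ∃ d ∈ (orbSum y : A →+ A).ker, a = c + d) ∧
      gs ψ B ⊤ = gs ψ B (fixSub A y) * gs ψ B (orbSum y : A →+ A).ker ∧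
      Nat.card (orbSum y : A →+ A).ker = (fixSub A y).index := by
  classical
  obtain ⟨m, hm⟩ := nsmul_inj hA hy
  set C := fixSub A y
  set D := (orbSum y : A →+ A).ker with hD
  have horth : ∀ c ∈ C, ∀ d ∈ D, B c d = 0 := by
    intro c hc d hd
    have h1 : B c (orbSum y d) = orderOf y • B c d := by
      rw [orbSum_apply, map_sum, Finset.sum_congr rfl (g := fun _ => B c d) fun i _ => ?_,
        Finset.sum_const, Finset.card_range]
      conv_lhs => rw [← smul_pow_fixed hc i]
      exact hinv _ _ _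
    rw [AddMonoidHom.mem_ker.mp hd, map_zero, nsmul_eq_mul] at h1
    refine (mul_eq_zero.mp h1.symm).resolve_left fun h => hy ?_
    exact (CharP.cast_eq_zero_iff (ZMod p) p (orderOf y)).mp h
  have hsur : ∀ a : A, ∃ c ∈ C, ∃ d ∈ D, a = c + d := by
    intro a
    refine ⟨m • orbSum y a, nsmul_mem (orbSum_fixed y a) m, a - m • orbSum y a, ?_,
      (add_sub_cancel _ _).symm⟩
    rw [hD, AddMonoidHom.mem_ker, map_sub, map_nsmul, orbSum_of_fixed (orbSum_fixed y a), hm,
      sub_self]
  have hbij : Function.Bijective (fun x : C × D => (x.1 : A) + x.2) := by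
    refine ⟨fun x x' h => ?_, fun a => ?_⟩
    · simp only at h
      have h' : ((x.1 - x'.1 : C) : A) = ((x'.2 - x.2 : D) : A) := by
        rw [AddSubgroup.coe_sub, AddSubgroup.coe_sub, sub_eq_sub_iff_add_eq_add, h, add_comm]
      have h1 : orbSum y ((x'.2 - x.2 : D) : A) = 0 := AddMonoidHom.mem_ker.mp (x'.2 - x.2).2
      rw [← h', orbSum_of_fixed (x.1 - x'.1).2] at h1
      have h2 := hm ((x.1 - x'.1 : C) : A)
      rw [h1, nsmul_zero] at h2
      have e1 : x.1 = x'.1 := sub_eq_zero.mp (Subtype.ext h2.symm)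
      refine Prod.ext e1 (Subtype.ext ?_)
      simp only [e1] at h
      exact add_left_cancel h
    · obtain ⟨c, hc, d, hd, rfl⟩ := hsur a
      exact ⟨(⟨c, hc⟩, ⟨d, hd⟩), rfl⟩
  refine ⟨horth, hsur, ?_, ?_⟩
  · letI := Fintype.ofFinite C
    letI := Fintype.ofFinite D
    letI := Fintype.ofFinite (⊤ : AddSubgroup A)
    show ∑ a : (⊤ : AddSubgroup A), ψ (B (a : A) a) =
      (∑ c : C, ψ (B (c : A) c)) * ∑ d : D, ψ (B (d : A) d)
    rw [Finset.sum_mul_sum, ← Fintype.sum_prod_type']
    refine (Fintype.sum_bijective (fun x : C × D => (⟨(x.1 : A) + x.2, AddSubgroup.mem_top _⟩ :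
      (⊤ : AddSubgroup A))) ⟨fun x x' h => hbij.1 (congrArg Subtype.val h), fun a => ?_⟩ _ _
      fun x => ?_).symm
    · obtain ⟨x, hx⟩ := hbij.2 (a : A)
      exact ⟨x, Subtype.ext hx⟩
    · rw [← AddChar.map_add_eq_mul]
      congr 1
      simp only [map_add, AddMonoidHom.add_apply]
      rw [horth _ x.1.2 _ x.2.2, hsym (x.2 : A) x.1, horth _ x.1.2 _ x.2.2]
      ring
  · have h1 := Nat.card_eq_of_bijective _ hbij
    rw [Nat.card_prod, ← C.card_mul_index] at h1
    exact Nat.eq_of_mul_eq_mul_left Nat.card_pos h1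

theorem gs_comb {p : ℕ} [hp : Fact p.Prime] (B : A →+ A →+ ZMod p)
    (hinv : ∀ (y : H) a b, B (y • a) (y • b) = B a b) (ψ : AddChar (ZMod p) ℂ) :
    AlgComb (fun y : H => gs ψ B (fixSub A y)) := by
  classical
  haveI := Fintype.ofFinite A
  letI act : ∀ k : ZMod p, MulAction H {a : A // B a a = k} := fun k =>
    { smul := fun y a => ⟨y • (a : A), by rw [hinv]; exact a.2⟩
      one_smul := fun a => Subtype.ext (one_smul H (a : A))
      mul_smul := fun x y a => Subtype.ext (mul_smul x y (a : A)) }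
  have key : (fun y : H => gs ψ B (fixSub A y)) =
      ∑ k : ZMod p, ψ k • PermChar.piFun H {a : A // B a a = k} := by
    funext y
    letI := Fintype.ofFinite (fixSub A y)
    simp only [Finset.sum_apply, Pi.smul_apply, smul_eq_mul]
    show ∑ a : fixSub A y, ψ (B (a : A) a) = _
    rw [← Finset.sum_fiberwise (Finset.univ : Finset (fixSub A y)) (fun a => B (a : A) a)]
    refine Finset.sum_congr rfl fun k _ => ?_
    rw [Finset.sum_congr rfl (g := fun _ => ψ k) fun a ha => by rw [(Finset.mem_filter.mp ha).2],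
      Finset.sum_const, nsmul_eq_mul, mul_comm]
    congr 1
    rw [PermChar.piFun, ← Fintype.card_subtype, ← Nat.card_eq_fintype_card]
    congr 1
    exact Nat.card_congr
      { toFun := fun a => ⟨⟨(a.1 : A), a.2⟩, Subtype.ext a.1.2⟩
        invFun := fun b => ⟨⟨(b.1 : A), congrArg Subtype.val b.2⟩, b.1.2⟩
        left_inv := fun a => rfl
        right_inv := fun b => rfl }
  rw [key]
  refine AlgComb.sum fun k _ => (AlgComb.of_char PermChar.isCharacter_piFun).smul ?_
  refine isIntegral_of_pow_eq_one hp.out.pos ?_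
  rw [← AddChar.map_nsmul_eq_pow, nsmul_eq_mul, ZMod.natCast_self, zero_mul, AddChar.map_zero_eq_one]

theorem sym_good {p : ℕ} [hp : Fact p.Prime] (hp2 : p ≠ 2) (hpH : ¬ p ∣ Nat.card H)
    {M : Ideal AlgInt} (hM : IsPModular p M) {N : ℕ} (hN : p ∣ N) (hN0 : 0 < N)
    (hA : ∀ a : A, p • a = 0) (B : A →+ A →+ ZMod p) (hsym : ∀ a b, B a b = B b a)
    (hinv : ∀ (y : H) a b, B (y • a) (y • b) = B a b) (hnd : ∀ a, (∀ b, B a b = 0) → a = 0) :
    ∃ η : H → ℂ, Good p N M η (fun y => (fixSub A y).index) := by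
  classical
  set ψ : AddChar (ZMod p) ℂ := ZMod.stdAddChar with hψdef
  have hψ : ψ ≠ 1 := fun h => by
    have := ZMod.injective_stdAddChar (N := p) (a₁ := 1) (a₂ := 0)
      (by rw [← hψdef, h]; rfl)
    exact one_ne_zero this
  have hroot : ∀ x : ZMod p, ψ x ^ p = 1 := fun x => by
    rw [← AddChar.map_nsmul_eq_pow, nsmul_eq_mul, ZMod.natCast_self, zero_mul,
      AddChar.map_zero_eq_one]
  have hint : ∀ S : AddSubgroup A, IsIntegral ℤ (gs ψ B S) := fun S =>
    IsIntegral.sum _ fun a _ => isIntegral_of_pow_eq_one hp.out.pos (hroot _)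
  have hord : ∀ y : H, ¬ p ∣ orderOf y := fun y h => hpH (h.trans (orderOf_dvd_natCard y))
  have hndC : ∀ y : H, ∀ a ∈ fixSub A y, (∀ b ∈ fixSub A y, B a b = 0) → a = 0 := by
    intro y a ha h
    obtain ⟨horth, hsur, -, -⟩ := gs_split hA B hsym hinv y (hord y) ψ
    refine hnd a fun b => ?_
    obtain ⟨c, hc, d, hd, rfl⟩ := hsur b
    rw [map_add, h c hc, horth a ha d hd, add_zero]
  have hndD : ∀ y : H, ∀ a ∈ (orbSum y : A →+ A).ker,
      (∀ b ∈ (orbSum y : A →+ A).ker, B a b = 0) → a = 0 := by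
    intro y a ha h
    obtain ⟨horth, hsur, -, -⟩ := gs_split hA B hsym hinv y (hord y) ψ
    refine hnd a fun b => ?_
    obtain ⟨c, hc, d, hd, rfl⟩ := hsur b
    rw [map_add, h d hd, hsym a c, horth c hc a ha, add_zero]
  set f : H → ℂ := fun y => gs ψ B (fixSub A y) with hf
  set η : H → ℂ := fun y => gs ψ B (orbSum y : A →+ A).ker with hη
  have hfcomb : AlgComb f := gs_comb B hinv ψ
  have hfconj : AlgComb (fun y => conj (f y)) := by
    have h := gs_comb (H := H) B hinv ψ⁻¹
    have e : (fun y => conj (f y)) = fun y : H => gs ψ⁻¹ B (fixSub A y) := funext fun y => by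
      rw [hf]
      simp only [gs, map_sum]
      exact Finset.sum_congr rfl fun a _ => by rw [AddChar.inv_apply, AddChar.map_neg_eq_conj]
    rw [e]
    exact h
  obtain ⟨n, hn⟩ := fix_card p A hA
  have hcomb : AlgComb η := by
    refine comb_of_mul hpH n (comb_mul hfcomb hfconj) (fun y => ?_)
      (g := fun y => gs ψ B ⊤ * conj (f y)) (hfconj.smul (hint ⊤)) (fun y => ?_)
      (fun y => hint _)
    · obtain ⟨k, hk, hk', -⟩ := hn (fixSub A y)
      refine ⟨k, hk, ?_⟩
      show f y * conj (f y) = _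
      rw [hf, gs_normSq hp2 B hsym _ (hndC y) hψ, hk', Nat.cast_pow]
    · show η y * (f y * conj (f y)) = _
      rw [← mul_assoc, mul_comm (η y), (gs_split hA B hsym hinv y (hord y) ψ).2.2.1]
  refine ⟨η, hcomb, ?_, fun y => ?_, fun y σ => ?_, fun y hy => ?_⟩
  · have hbot : (orbSum (1 : H) : A →+ A).ker = ⊥ := by
      refine (AddSubgroup.eq_bot_iff_forall _).mpr fun a ha => ?_
      have h := AddMonoidHom.mem_ker.mp ha
      rwa [orbSum_apply, orderOf_one, Finset.sum_range_one, pow_zero, one_smul] at h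
    show gs ψ B (orbSum (1 : H) : A →+ A).ker = 1
    rw [hbot]
    unfold gs
    letI : Fintype (⊥ : AddSubgroup A) := Fintype.ofFinite _
    refine (Finset.sum_eq_single (0 : (⊥ : AddSubgroup A))
      (fun a _ ha => absurd (Subsingleton.elim a 0) ha) (fun h => ?_)).trans ?_
    · exact absurd (Finset.mem_univ _) h
    · simp
  · refine sum_mem fun a _ => root_mem_cycSpan hN0 ?_
    obtain ⟨j, rfl⟩ := hN
    rw [pow_mul, hroot, one_pow]
  · have hσψ : (σ.toMonoidHom.compAddChar ψ) ≠ 1 := fun h => hψ (DFunLike.ext _ _ fun x => by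
      have := DFunLike.congr_fun h x
      simp only [MonoidHom.compAddChar_apply, Function.comp_apply, AddChar.one_apply] at this
      exact σ.injective (this.trans (map_one σ).symm))
    have e : σ (η y) = gs (σ.toMonoidHom.compAddChar ψ) B (orbSum y : A →+ A).ker := by
      simp only [hη, gs, map_sum]
      rfl
    have h2 := gs_normSq hp2 B hsym _ (hndD y) hσψ
    rw [← e, Complex.mul_conj, (gs_split hA B hsym hinv y (hord y) ψ).2.2.2] at h2
    have h3 : Complex.normSq (σ (η y)) = ((fixSub A y).index : ℝ) := by exact_mod_cast h2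
    exact h3.le
  · refine ⟨⟨η y, hint _⟩, ?_, rfl⟩
    letI := Fintype.ofFinite (orbSum y : A →+ A).ker
    let T : (orbSum y : A →+ A).ker → AlgInt := fun a =>
      ⟨ψ (B (a : A) a), isIntegral_of_pow_eq_one hp.out.pos (hroot _)⟩
    have hT : (⟨η y, hint _⟩ : AlgInt) =
        ∑ a, (T a - 1) + (Nat.card (orbSum y : A →+ A).ker : AlgInt) := by
      rw [Finset.sum_sub_distrib, Finset.sum_const, nsmul_one, Finset.card_univ,
        ← Nat.card_eq_fintype_card, sub_add_cancel]
      refine Subtype.ext ?_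
      rw [AddSubmonoidClass.coe_finsetSum]
      rfl
    rw [hT]
    refine M.add_mem (M.sum_mem fun a _ => root_sub_one_mem hM (Subtype.ext (hroot _))) ?_
    rw [natCast_mem_iff hM, (gs_split hA B hsym hinv y (hord y) ψ).2.2.2]
    obtain ⟨k, -, -, j, hj⟩ := hn (fixSub A y)
    rw [hj] at hy ⊢
    exact dvd_pow_self p fun h0 => hy (by rw [h0, pow_zero])

end Cfsg.Agent.Block.KGVReal
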